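import Cfsg.Agent.H38.SUBundle.Orth

/-!
Overgroups in the special unitary group of an orthogonal group over the fixed field, from dimension 6 on.
-/

set_option autoImplicit false
set_option linter.unusedSectionVars false

namespace H86.SU6.Orth

open Matrix Cfsg H50 H51.StabMax H51.ShortU
open H38.SpSU (Rt rt_add rt_smul rt_sub rt_mulVec)
open H38.SUBundle.OrthTen (ri ri_add ri_smul ri_zero ri_sub ri_injective rt_ri exists_ri_of_rt
  exists_singular_val exists_singular_out finrank_span_singleton_le finrank_span_insert_le Root IsPair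
  root_swap root_group)
open scoped MatrixGroups

variable {F : Type*} [Field F] {n q : ℕ}

local notation "V" => (Fin n → F)
local notation "hh" => Cfsg.hermForm n F q

variable {F₀ : Subfield F} {P : GL (Fin n) F}

/-- The product of the two reflections in the orthogonal vectors `r`, `r'`. -/
def IsRefPair (r r' : V) (A : SU n F q) : Prop :=
  ∀ z, suMat A *ᵥ z = z - (2 * hh z r / hh r r) • r - (2 * hh z r' / hh r' r') • r'

theorem exists_refPair [Fintype F] (hF : Fintype.card F = q ^ 2) {r r' : V} (hr : hh r r ≠ 0)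
    (hr' : hh r' r' ≠ 0) (hrr' : hh r r' = 0) : ∃ A : SU n F q, IsRefPair r r' A := by
  have hok : ∀ x : V, hh x x ≠ 0 →
      -2 / hh x x + (-2 / hh x x) ^ q + -2 / hh x x * (-2 / hh x x) ^ q * hh x x = 0 := by
    intro x hx
    have h2 : (2 : F) ^ q = 2 := by
      rw [← one_add_one_eq_two, add_pow_q hF, one_pow]
    rw [div_pow, neg_pow_q hF, h2, ← h_symm hF x x]
    field_simp
    ring
  refine ⟨mkSU (unitaryTransvection n q r (-2 / hh r r) * unitaryTransvection n q r' (-2 / hh r' r'))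
    (IsIso.mul (ut_isIso hF (hok r hr)) (ut_isIso hF (hok r' hr'))) ?_, fun z => ?_⟩
  · rw [det_mul, ut_det, ut_det, div_mul_cancel₀ _ hr, div_mul_cancel₀ _ hr']
    ring
  · show (unitaryTransvection n q r _ * unitaryTransvection n q r' _) *ᵥ z = _
    rw [← mulVec_mulVec, ut_mulVec, ut_mulVec, h_add_left, h_smul_left, (h_eq_zero_comm hF).1 hrr']
    module

theorem refPair_conj [Fintype F] {r r' : V} {A : SU n F q} (hA : IsRefPair r r' A) (g : SU n F q) :
    IsRefPair (suMat g *ᵥ r) (suMat g *ᵥ r') (g * A * g⁻¹) := fun z => by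
  have e : ∀ x : V, hh (suMat g⁻¹ *ᵥ z) x = hh z (suMat g *ᵥ x) := fun x => by
    conv_rhs => rw [← suMat_mulVec_inv g z, suMat_h]
  rw [suMat_mulVec_mul, suMat_mulVec_mul, hA, mulVec_sub, mulVec_sub, mulVec_smul, mulVec_smul,
    suMat_mulVec_inv, suMat_h, suMat_h, e, e]

/-- `g` keeps the point of the rational vector `a` rational. -/
def Kept (P : GL (Fin n) F) (g : SU n F q) (a : Fin n → F₀) : Prop :=
  ∃ (l : F) (r : Fin n → F₀), suMat g *ᵥ ri P a = l • ri P r

/-- The span over `F` of a subspace over the subfield. -/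
def ext (P : GL (Fin n) F) (X : Submodule F₀ (Fin n → F₀)) : Submodule F (Fin n → F) :=
  Submodule.span F (ri P '' (X : Set (Fin n → F₀)))

/-- `g` maps the span of `X` onto the span of rational vectors. -/
def Dfd (P : GL (Fin n) F) (g : SU n F q) (X : Submodule F₀ (Fin n → F₀)) : Prop :=
  ∃ Y : Submodule F₀ (Fin n → F₀), (ext P X).map (Matrix.toLin' (suMat g)) = ext P Y

theorem ri_mem_ext {X : Submodule F₀ (Fin n → F₀)} {a : Fin n → F₀} (ha : a ∈ X) :
    ri P a ∈ ext P X := Submodule.subset_span ⟨a, ha, rfl⟩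

theorem ext_sup (X X' : Submodule F₀ (Fin n → F₀)) : ext P (X ⊔ X') = ext P X ⊔ ext P X' := by
  refine le_antisymm ?_ (sup_le (Submodule.span_mono (Set.image_mono (SetLike.coe_subset_coe.2 le_sup_left)))
    (Submodule.span_mono (Set.image_mono (SetLike.coe_subset_coe.2 le_sup_right))))
  rw [ext, Submodule.span_le]
  rintro _ ⟨a, ha, rfl⟩
  obtain ⟨y, hy, z, hz, rfl⟩ := Submodule.mem_sup.1 ha
  rw [ri_add]
  exact add_mem (Submodule.mem_sup_left (ri_mem_ext hy)) (Submodule.mem_sup_right (ri_mem_ext hz))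

theorem dfd_sup {g : SU n F q} {X X' : Submodule F₀ (Fin n → F₀)} (h : Dfd P g X) (h' : Dfd P g X') :
    Dfd P g (X ⊔ X') := by
  obtain ⟨Y, hY⟩ := h
  obtain ⟨Y', hY'⟩ := h'
  exact ⟨Y ⊔ Y', by rw [ext_sup, Submodule.map_sup, hY, hY', ext_sup]⟩

/-- The hypotheses of the orthogonal structure. -/
structure Setup (n q : ℕ) (F₀ : Subfield F) (P : GL (Fin n) F) (ζ : F) [Fintype F] : Prop where
  hF : Fintype.card F = q ^ 2
  card₀ : Nat.card F₀ = q
  hn : 6 ≤ n
  two : (2 : F) ≠ 0
  rat : ∀ u v : Fin n → F₀, hermForm n F q (ri P u) (ri P v) ∈ F₀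
  ne : ζ ≠ 0
  skew : ζ ^ q = -ζ

namespace Setup

variable [Fintype F] {ζ : F} (D : Setup n q F₀ P ζ)
include D

theorem fixed {x : F} (hx : x ∈ F₀) : x ^ q = x := by
  haveI : Fintype F₀ := Fintype.ofFinite _
  have h := FiniteField.pow_card (⟨x, hx⟩ : F₀)
  rw [← Nat.card_eq_fintype_card, D.card₀] at h
  exact congrArg Subtype.val h

theorem mem_of_fixed {x : F} (hx : x ^ q = x) : x ∈ F₀ := by
  have : (F₀ : Set F) = {x | x ^ q = x} := Set.eq_of_subset_of_ncard_le (fun y hy => D.fixed hy) (by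
    rw [← Nat.card_coe_set_eq, ← Nat.card_coe_set_eq]
    exact (card_fixed D.hF).le.trans D.card₀.ge) (Set.toFinite _)
  exact this.ge hx

theorem zeta_notMem : ζ ∉ F₀ := fun h => by
  have h1 := D.fixed h
  rw [D.skew] at h1
  have : (2 : F) * ζ = 0 := by linear_combination -h1
  exact D.ne ((mul_eq_zero.1 this).resolve_left D.two)

theorem sep {a b : F} (ha : a ∈ F₀) (hb : b ∈ F₀) (h : a + ζ * b = 0) : a = 0 ∧ b = 0 := by
  by_cases hb0 : b = 0
  · exact ⟨by rw [hb0, mul_zero, add_zero] at h; exact h, hb0⟩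
  · refine absurd ?_ D.zeta_notMem
    rw [show ζ = -a / b by rw [eq_div_iff hb0]; linear_combination h]
    exact div_mem (neg_mem ha) hb

theorem two_mem : (2 : F) ∈ F₀ := by
  rw [← one_add_one_eq_two]
  exact add_mem (one_mem _) (one_mem _)

theorem coords (x : F) : ∃ a b : F₀, x = a + ζ * b := by
  have h2 := D.two
  have hz := D.ne
  refine ⟨⟨(x + x ^ q) / 2, D.mem_of_fixed ?_⟩, ⟨(x - x ^ q) / (2 * ζ), D.mem_of_fixed ?_⟩, ?_⟩
  · rw [div_pow, trace_fixed D.hF, D.fixed (D.two_mem)]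
  · rw [div_pow, mul_pow, D.skew, D.fixed (D.two_mem),
      sub_eq_add_neg x, add_pow_q D.hF, neg_pow_q D.hF, pow_q_pow_q D.hF]
    field_simp
    ring
  · show x = (x + x ^ q) / 2 + ζ * ((x - x ^ q) / (2 * ζ))
    field_simp
    ring

theorem decomp (v : V) : ∃ u u' : Fin n → F₀, v = ri P u + ζ • ri P u' := by
  choose a b hab using fun i => D.coords ((((P⁻¹ : GL (Fin n) F) : Matrix (Fin n) (Fin n) F) *ᵥ v) i)
  refine ⟨a, b, ?_⟩
  rw [ri, ri, ← Matrix.mulVec_smul, ← Matrix.mulVec_add]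
  conv_lhs => rw [← H49.gl_mulVec_inv P v]
  exact congrArg _ (funext fun i => hab i)

theorem ri_sep {u u' : Fin n → F₀} (h : ri P u + ζ • ri P u' = 0) : u = 0 ∧ u' = 0 := by
  rw [ri, ri, ← Matrix.mulVec_smul, ← Matrix.mulVec_add] at h
  have h' := H49.gl_mulVec_injective P (h.trans (Matrix.mulVec_zero _).symm)
  exact ⟨funext fun i => Subtype.ext (D.sep (u i).2 (u' i).2 (congrFun h' i)).1,
    funext fun i => Subtype.ext (D.sep (u i).2 (u' i).2 (congrFun h' i)).2⟩

theorem symm (u v : Fin n → F₀) : hh (ri P v) (ri P u) = hh (ri P u) (ri P v) := by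
  rw [h_symm D.hF (ri P u) (ri P v), D.fixed (D.rat u v)]

theorem h_mixed (x u u' : Fin n → F₀) :
    hh (ri P x) (ri P u + ζ • ri P u') = hh (ri P x) (ri P u) + ζ * -hh (ri P x) (ri P u') := by
  rw [h_add_right D.hF, h_smul_right D.hF, D.skew]
  ring

theorem h_mixed_zero {x u u' : Fin n → F₀} (h1 : hh (ri P x) (ri P u) = 0)
    (h2 : hh (ri P x) (ri P u') = 0) : hh (ri P x) (ri P u + ζ • ri P u') = 0 := by
  rw [D.h_mixed, h1, h2, neg_zero, mul_zero, add_zero]

theorem h_mixed_zero' {x u u' : Fin n → F₀} (h1 : hh (ri P x) (ri P u) = 0)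
    (h2 : hh (ri P x) (ri P u') = 0) : hh (ri P u + ζ • ri P u') (ri P x) = 0 :=
  (h_eq_zero_comm D.hF).1 (D.h_mixed_zero h1 h2)

/-- The form on the rational structure. -/
noncomputable def form : LinearMap.BilinForm F₀ (Fin n → F₀) :=
  LinearMap.mk₂ F₀ (fun u v => (⟨hh (ri P u) (ri P v), D.rat u v⟩ : F₀))
    (fun u u' v => Subtype.ext (by simp [ri_add, h_add_left]))
    (fun c u v => Subtype.ext (by simp [ri_smul, h_smul_left]))
    (fun u v v' => Subtype.ext (by simp [ri_add, h_add_right D.hF]))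
    (fun c u v => Subtype.ext (by simp [ri_smul, h_smul_right D.hF, D.fixed c.2]))

/-- The quadratic form on the rational structure. -/
noncomputable def qf : QuadraticForm F₀ (Fin n → F₀) := D.form.toQuadraticMap

theorem qf_eq (u : Fin n → F₀) : ((D.qf u : F₀) : F) = hh (ri P u) (ri P u) := rfl

theorem qf_eq_zero {u : Fin n → F₀} : D.qf u = 0 ↔ hh (ri P u) (ri P u) = 0 := by
  rw [← D.qf_eq]
  exact Subtype.coe_injective.eq_iff.symm

theorem polB_eq (u v : Fin n → F₀) :
    ((H43.polB D.qf u v : F₀) : F) = 2 * hh (ri P u) (ri P v) := by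
  rw [H43.polB_apply, qf, LinearMap.BilinMap.polar_toQuadraticMap]
  show hh (ri P u) (ri P v) + hh (ri P v) (ri P u) = _
  rw [D.symm u v]
  ring

theorem polB_eq_zero {u v : Fin n → F₀} :
    H43.polB D.qf u v = 0 ↔ hh (ri P u) (ri P v) = 0 := by
  constructor
  · intro h
    have := D.polB_eq u v
    rw [h, ZeroMemClass.coe_zero] at this
    exact (mul_eq_zero.1 this.symm).resolve_left D.two
  · intro h
    apply Subtype.ext
    rw [D.polB_eq, h, mul_zero]
    rfl

theorem nondegenerate : (H43.polB D.qf).Nondegenerate := by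
  have key : ∀ u, (∀ v, H43.polB D.qf u v = 0) → u = 0 := by
    intro u hu
    apply ri_injective (P := P)
    rw [ri_zero]
    refine eq_zero_of_h_right D.hF fun v => ?_
    obtain ⟨x, x', rfl⟩ := D.decomp v
    exact D.h_mixed_zero' (D.polB_eq_zero.1 (hu x)) (D.polB_eq_zero.1 (hu x'))
  exact ⟨key, fun u hu => key u fun v => by rw [H43.polB_comm]; exact hu v⟩

theorem exists_val (S : Submodule F₀ (Fin n → F₀)) (hS : Module.finrank F₀ S ≤ 1)
    {v : Fin n → F₀} (hv : v ∉ S) :
    ∃ y : Fin n → F₀, hh (ri P y) (ri P y) = 0 ∧ (∀ s ∈ S, hh (ri P s) (ri P y) = 0) ∧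
      hh (ri P v) (ri P y) ≠ 0 := by
  haveI : Finite F₀ := inferInstance
  obtain ⟨y, h0, h1, h2⟩ := exists_singular_val D.nondegenerate S
    (by rw [Module.finrank_fin_fun]; have := D.hn; omega) hv
  exact ⟨y, D.qf_eq_zero.1 h0, fun s hs => D.polB_eq_zero.1 (h1 s hs),
    fun h => h2 (D.polB_eq_zero.2 h)⟩

theorem exists_out (S T : Submodule F₀ (Fin n → F₀)) (hS : Module.finrank F₀ S ≤ 1)
    (hT : Module.finrank F₀ T ≤ 2) :
    ∃ y : Fin n → F₀, hh (ri P y) (ri P y) = 0 ∧ (∀ s ∈ S, hh (ri P s) (ri P y) = 0) ∧ y ∉ T := by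
  obtain ⟨y, h0, h1, h2⟩ := exists_singular_out D.nondegenerate S T
    (by rw [Module.finrank_fin_fun]; have := D.hn; omega)
    (by rw [Module.finrank_fin_fun]; have := D.hn; omega)
  exact ⟨y, D.qf_eq_zero.1 h0, fun s hs => D.polB_eq_zero.1 (h1 s hs), h2⟩

theorem finrank_perp_two (u w : Fin n → F₀) :
    n ≤ Module.finrank F₀ ((H43.polB D.qf).orthogonal (Submodule.span F₀ {u, w})) + 2 := by
  have h1 := H43.finrank_orth_add D.nondegenerate (Submodule.span F₀ {u, w})
  rw [Module.finrank_fin_fun] at h1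
  have h2 := finrank_span_insert_le (k := F₀) u {w}
  have h3 := finrank_span_singleton_le (k := F₀) w
  omega

theorem exists_common (u w : Fin n → F₀) :
    ∃ y : Fin n → F₀, y ≠ 0 ∧ hh (ri P y) (ri P y) = 0 ∧ hh (ri P u) (ri P y) = 0 ∧
      hh (ri P w) (ri P y) = 0 := by
  haveI : Finite F₀ := inferInstance
  have := D.finrank_perp_two u w
  obtain ⟨y, hy, hy0, hyy⟩ := H43.exists_singular_in (Q := D.qf)
    ((H43.polB D.qf).orthogonal (Submodule.span F₀ {u, w})) (by have := D.hn; omega)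
  exact ⟨y, hy0, D.qf_eq_zero.1 hyy, D.polB_eq_zero.1 (hy u (Submodule.subset_span (by simp))),
    D.polB_eq_zero.1 (hy w (Submodule.subset_span (by simp)))⟩

theorem exists_aniso {W : Submodule F₀ (Fin n → F₀)} (hW : n < 2 * Module.finrank F₀ W) :
    ∃ r ∈ W, D.qf r ≠ 0 := by
  by_contra h
  push Not at h
  have := H43.two_mul_finrank_singular_le D.nondegenerate W h
  rw [Module.finrank_fin_fun] at this
  omega

theorem two₀ : (2 : F₀) ≠ 0 := fun h => D.two (by rw [← map_ofNat F₀.subtype 2, h, map_zero])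

theorem qf_add (a b : Fin n → F₀) : D.qf (a + b) = D.qf a + D.qf b + H43.polB D.qf a b :=
  H43.qmap_add a b

/-- Among `w`, `w + r`, `w - r` one is anisotropic. -/
theorem exists_aniso_out {W X : Submodule F₀ (Fin n → F₀)} {r : Fin n → F₀} (hrW : r ∈ W)
    (hr : D.qf r ≠ 0) (hrX : r ∈ X) {w : Fin n → F₀} (hwW : w ∈ W) (hwX : w ∉ X) :
    ∃ x ∈ W, D.qf x ≠ 0 ∧ x ∉ X := by
  by_cases h0 : D.qf w = 0
  · by_cases h1 : D.qf (w + r) = 0
    · refine ⟨w + -r, add_mem hwW (neg_mem hrW), fun h2 => ?_, fun h => hwX (by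
        simpa using add_mem h hrX)⟩
      rw [D.qf_add, QuadraticMap.map_neg, map_neg] at h2
      rw [D.qf_add] at h1
      have : (2 : F₀) * D.qf r = 0 := by linear_combination h1 + h2 - 2 * h0
      exact hr ((mul_eq_zero.1 this).resolve_left D.two₀)
    · exact ⟨w + r, add_mem hwW hrW, h1, fun h => hwX (by simpa using sub_mem h hrX)⟩
  · exact ⟨w, hwW, h0, hwX⟩

theorem mem_span_singular (u : Fin n → F₀) :
    u ∈ Submodule.span F₀ {z : Fin n → F₀ | hh (ri P z) (ri P z) = 0} := by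
  obtain ⟨y, h0, -, hy⟩ := D.exists_out ⊥ ⊥ (by simp) (by simp)
  have := H43.mem_span_all_singular D.nondegenerate (z₀ := y) (fun h => hy (by simp [h]))
    (D.qf_eq_zero.2 h0) u
  exact Submodule.span_mono (fun z hz => D.qf_eq_zero.1 hz) this

theorem mem_ext {X : Submodule F₀ (Fin n → F₀)} {v : V} :
    v ∈ ext P X ↔ ∃ a ∈ X, ∃ b ∈ X, v = ri P a + ζ • ri P b := by
  constructor
  · intro hv
    induction hv using Submodule.span_induction with
    | mem x hx => obtain ⟨a, ha, rfl⟩ := hx; exact ⟨a, ha, 0, zero_mem X, by rw [ri_zero, smul_zero, add_zero]⟩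
    | zero => exact ⟨0, zero_mem X, 0, zero_mem X, by rw [ri_zero, smul_zero, add_zero]⟩
    | add x y _ _ hx hy =>
      obtain ⟨a, ha, b, hb, rfl⟩ := hx
      obtain ⟨a', ha', b', hb', rfl⟩ := hy
      exact ⟨a + a', add_mem ha ha', b + b', add_mem hb hb', by rw [ri_add, ri_add]; module⟩
    | smul c x _ hx =>
      obtain ⟨a, ha, b, hb, rfl⟩ := hx
      obtain ⟨c1, c2, rfl⟩ := D.coords c
      have hν : ζ ^ 2 ∈ F₀ := D.mem_of_fixed (by rw [← pow_mul, mul_comm, pow_mul, D.skew, neg_sq])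
      refine ⟨c1 • a + ((⟨ζ ^ 2, hν⟩ : F₀) * c2) • b, add_mem (X.smul_mem _ ha) (X.smul_mem _ hb),
        c2 • a + c1 • b, add_mem (X.smul_mem _ ha) (X.smul_mem _ hb), ?_⟩
      simp only [ri_add, ri_smul, MulMemClass.coe_mul]
      module
  · rintro ⟨a, ha, b, hb, rfl⟩
    exact add_mem (ri_mem_ext ha) (Submodule.smul_mem _ _ (ri_mem_ext hb))

theorem ext_inf (X X' : Submodule F₀ (Fin n → F₀)) : ext P (X ⊓ X') = ext P X ⊓ ext P X' := by
  refine le_antisymm (le_inf (Submodule.span_mono (Set.image_mono inf_le_left))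
    (Submodule.span_mono (Set.image_mono inf_le_right))) fun v hv => ?_
  obtain ⟨a, ha, b, hb, e⟩ := D.mem_ext.1 hv.1
  obtain ⟨a', ha', b', hb', e'⟩ := D.mem_ext.1 hv.2
  have h : ri P (a - a') + ζ • ri P (b - b') = 0 := by
    rw [ri_sub, ri_sub, smul_sub, sub_add_sub_comm, ← e, ← e', sub_self]
  obtain ⟨e1, e2⟩ := D.ri_sep h
  rw [sub_eq_zero] at e1 e2
  exact D.mem_ext.2 ⟨a, ⟨ha, e1 ▸ ha'⟩, b, ⟨hb, e2 ▸ hb'⟩, e⟩

theorem dfd_inf {g : SU n F q} {X X' : Submodule F₀ (Fin n → F₀)} (h : Dfd P g X) (h' : Dfd P g X') :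
    Dfd P g (X ⊓ X') := by
  obtain ⟨Y, hY⟩ := h
  obtain ⟨Y', hY'⟩ := h'
  refine ⟨Y ⊓ Y', ?_⟩
  rw [D.ext_inf, Submodule.map_inf _ (fun x y e => ?_), hY, hY', D.ext_inf]
  rw [Matrix.toLin'_apply, Matrix.toLin'_apply] at e
  rw [← suMat_inv_mulVec g x, e, suMat_inv_mulVec]

/-! ### Overgroups -/

variable {K : Subgroup (SU n F q)}
  (hK : ∀ A : SU n F q, (∀ v, Rt F₀ P v → Rt F₀ P (suMat A *ᵥ v)) → A ∈ K)
include hK

theorem root_rat (u v : Fin n → F₀) {c : F} (hc : c ∈ F₀) : Root K (ri P u) (ri P v) c :=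
  fun A hA => hK A fun w hw => by
    obtain ⟨x, rfl⟩ := exists_ri_of_rt hw
    rw [hA, D.fixed hc]
    exact rt_sub (rt_add (rt_ri x) (rt_smul (mul_mem hc (D.rat _ _)) (rt_ri u)))
      (rt_smul (mul_mem hc (D.rat _ _)) (rt_ri v))

theorem refPair_mem {r r' : Fin n → F₀} {A : SU n F q} (hA : IsRefPair (ri P r) (ri P r') A) : A ∈ K :=
  hK A fun w hw => by
    obtain ⟨x, rfl⟩ := exists_ri_of_rt hw
    rw [hA]
    exact rt_sub (rt_sub (rt_ri x) (rt_smul (div_mem (mul_mem D.two_mem (D.rat _ _)) (D.rat _ _)) (rt_ri r)))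
      (rt_smul (div_mem (mul_mem D.two_mem (D.rat _ _)) (D.rat _ _)) (rt_ri r'))

/-- Transitivity on rational isotropic vectors, one step. -/
theorem exists_move {u w : Fin n → F₀} (hu : hh (ri P u) (ri P u) = 0) (hw : hh (ri P w) (ri P w) = 0)
    (huw : hh (ri P u) (ri P w) ≠ 0) : ∃ A ∈ K, suMat A *ᵥ ri P u = ri P w := by
  have hwu : hh (ri P w) (ri P u) = hh (ri P u) (ri P w) := D.symm u w
  have hur : hh (ri P u) (ri P (u - w)) = -hh (ri P u) (ri P w) := by
    rw [ri_sub, h_sub_right D.hF, hu, zero_sub]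
  have hrr : hh (ri P (u - w)) (ri P (u - w)) = -2 * hh (ri P u) (ri P w) := by
    simp only [ri_sub, h_sub_left, h_sub_right D.hF, hu, hw, hwu]
    ring
  obtain ⟨r', hr'W, hr'⟩ := D.exists_aniso
    (W := (H43.polB D.qf).orthogonal (Submodule.span F₀ {u, w}))
    (by have := D.finrank_perp_two u w; have := D.hn; omega)
  have h1 : hh (ri P u) (ri P r') = 0 := D.polB_eq_zero.1 (hr'W u (Submodule.subset_span (by simp)))
  have h2 : hh (ri P w) (ri P r') = 0 := D.polB_eq_zero.1 (hr'W w (Submodule.subset_span (by simp)))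
  obtain ⟨A, hA⟩ := exists_refPair D.hF (r := ri P (u - w)) (r' := ri P r')
    (by rw [hrr]; exact mul_ne_zero (neg_ne_zero.2 D.two) huw)
    (fun h => hr' (D.qf_eq_zero.2 h))
    (by rw [ri_sub, h_sub_left, h1, h2, sub_zero])
  refine ⟨A, D.refPair_mem hK hA, ?_⟩
  rw [hA, hur, hrr, h1, mul_zero, zero_div, zero_smul, sub_zero,
    show 2 * -hh (ri P u) (ri P w) / (-2 * hh (ri P u) (ri P w)) = 1 by
      have := D.two; field_simp,
    one_smul, ri_sub, sub_sub_cancel]

/-- One centre gives all rational isotropic centres. -/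
theorem ctr_all {u w : Fin n → F₀} (hu0 : u ≠ 0) (hu : hh (ri P u) (ri P u) = 0)
    (hc : IsCtr K (ri P u)) (hw : hh (ri P w) (ri P w) = 0) : IsCtr K (ri P w) := by
  by_cases hdep : u ∈ Submodule.span F₀ {u - w}
  · obtain ⟨c, hcu⟩ := Submodule.mem_span_singleton.1 hdep
    have hc0 : c ≠ 0 := fun h => hu0 (by rw [← hcu, h, zero_smul])
    have : w = ((c - 1) / c) • u := by
      have h' : c • w = (c - 1) • u := by
        rw [smul_sub, sub_eq_iff_eq_add] at hcu
        rw [sub_smul, one_smul, hcu]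
        abel
      rw [div_eq_inv_mul, ← smul_smul, ← h', smul_smul, inv_mul_cancel₀ hc0, one_smul]
    rw [this, ri_smul]
    exact ctr_smul D.hF hc _
  obtain ⟨y, hy, hyo, hyu⟩ := D.exists_val (Submodule.span F₀ {u - w})
    (finrank_span_singleton_le _) hdep
  have hyw : hh (ri P y) (ri P w) ≠ 0 := by
    have h := hyo (u - w) (Submodule.mem_span_singleton_self _)
    rw [ri_sub, h_sub_left, sub_eq_zero] at h
    rw [D.symm, ← h]
    exact hyu
  obtain ⟨A, hAK, hA⟩ := D.exists_move hK hu hy hyu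
  obtain ⟨B, hBK, hB⟩ := D.exists_move hK hy hw hyw
  rw [← hB]
  exact ctr_group (hA ▸ ctr_group hc hAK) hBK

omit hK in
/-- Roots sharing the first vector give the transvections there. -/
theorem root_ctr {x y y' : V} (hxx : hh x x = 0) (hyy : hh y y = 0) (hy'y' : hh y' y' = 0)
    (hxy : hh x y = 0) (hxy' : hh x y' = 0) (hy : Root K x y 1)
    (hy' : ∀ d ∈ F₀, Root K x y' d) (hk : hh y y' ∉ F₀) : IsCtr K x := by
  have hF := D.hF
  refine ⟨hxx, fun A t ht hA => ?_⟩
  set k := hh y y' with hkdef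
  have hk0 : k - k ^ q ≠ 0 := fun h => hk (D.mem_of_fixed (sub_eq_zero.1 h).symm)
  set d := t / (k - k ^ q) with hd
  have hd0 : d ∈ F₀ := D.mem_of_fixed (by
    rw [hd, div_pow, sub_pow_q hF, pow_q_pow_q hF, show t ^ q = -t by linear_combination ht,
      show k ^ q - k = -(k - k ^ q) by ring, neg_div_neg_eq])
  obtain ⟨B, hB⟩ := exists_sr hF hxx hyy hxy 1
  obtain ⟨C, hC⟩ := exists_sr hF hxx hy'y' hxy' d
  have he : t = d * k - d ^ q * hh y' y := by
    rw [D.fixed hd0, h_symm hF y y', ← hkdef, ← mul_sub, hd, div_mul_cancel₀ _ hk0]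
  have e1 : C * B * A = B * C := suMat_ext fun w => by
    have hyx := (h_eq_zero_comm hF).1 hxy
    have hy'x := (h_eq_zero_comm hF).1 hxy'
    rw [suMat_mulVec_mul, suMat_mulVec_mul, suMat_mulVec_mul, hA, ut_mulVec, hC w, hB, hC, hB, he]
    simp only [h_add_left, h_sub_left, h_smul_left, hxx, hxy, hxy', hyx, hy'x, one_pow, hkdef]
    module
  have : A = (C * B)⁻¹ * (B * C) := by rw [← e1]; group
  rw [this]
  exact mul_mem (inv_mem (mul_mem (hy' d hd0 C hC) (hy B hB))) (mul_mem (hy B hB) (hy' d hd0 C hC))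

/-- A root group of a rational vector and a partner off the rational points gives a centre. -/
theorem ctr_of_root {u : Fin n → F₀} {m : V} {κ : F} (hu0 : u ≠ 0) (hu : hh (ri P u) (ri P u) = 0)
    (hm : hh m m = 0) (hum : hh (ri P u) m = 0) (hκ : κ ≠ 0)
    (hroot : ∀ b ∈ F₀, Root K (ri P u) m (κ * b))
    (hbad : ∀ (l : F) (p : Fin n → F₀), m ≠ l • ri P p) : IsCtr K (ri P u) := by
  have hF := D.hF
  set m' := κ ^ q • m with hm'def
  have hm' : hh m' m' = 0 := by rw [hm'def, h_smul_left, h_smul_right hF, hm, mul_zero, mul_zero]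
  have hum' : hh (ri P u) m' = 0 := by rw [hm'def, h_smul_right hF, hum, mul_zero]
  have hr' : ∀ b ∈ F₀, Root K (ri P u) m' b := fun b hb A hA => hroot b hb A fun z => by
    rw [hA z, hm'def, h_smul_right hF, pow_q_pow_q hF, mul_pow]
    module
  by_cases hex : ∃ x : Fin n → F₀, hh (ri P x) (ri P x) = 0 ∧ hh (ri P u) (ri P x) = 0 ∧
      hh m' (ri P x) ∉ F₀
  · obtain ⟨x, hx, hux, hk⟩ := hex
    exact D.root_ctr hu hm' hx hum' hux (hr' 1 (one_mem _)) (fun d hd => D.root_rat hK u x hd) hk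
  push Not at hex
  obtain ⟨e1, e2, he⟩ := D.decomp m'
  -- `e2` is orthogonal to everything orthogonal to `u`
  set U := (H43.polB D.qf).orthogonal (Submodule.span F₀ {u}) with hU
  obtain ⟨z₀, hz₀, hz₀u, hz₀n⟩ := D.exists_out (Submodule.span F₀ {u}) (Submodule.span F₀ {u})
    (finrank_span_singleton_le _) ((finrank_span_singleton_le _).trans (by omega))
  have hz₀U : z₀ ∈ U := fun s hs => D.polB_eq_zero.2 (hz₀u s hs)
  obtain ⟨y₀, hy₀, hzy⟩ := H43.exists_orth_polB_eq D.nondegenerate hz₀n (1 : F₀)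
  have hperp : ∀ y ∈ U, H43.polB D.qf e2 y = 0 := by
    intro y hy
    have hspan := H43.mem_span_singular (U := U) hz₀U (D.qf_eq_zero.2 hz₀) hy₀
      (by rw [hzy]; exact one_ne_zero) hy
    refine LinearMap.mem_ker.1 ((Submodule.span_le.2 ?_) hspan : y ∈ LinearMap.ker (H43.polB D.qf e2))
    rintro x ⟨hxU, hxQ⟩
    have hux := D.polB_eq_zero.1 (hxU u (Submodule.mem_span_singleton_self u))
    have hk := D.fixed (hex x (D.qf_eq_zero.1 hxQ) hux)
    have hfix : hh (ri P x) m' ∈ F₀ := by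
      rw [h_symm hF m' (ri P x), hk]
      exact hex x (D.qf_eq_zero.1 hxQ) hux
    rw [he, D.h_mixed] at hfix
    refine LinearMap.mem_ker.2 (D.polB_eq_zero.2 ?_)
    rw [D.symm]
    have h0 := (D.sep (sub_mem (D.rat x e1) hfix) (neg_mem (D.rat x e2)) (by ring)).2
    exact neg_eq_zero.1 h0
  have he2 : e2 ∈ Submodule.span F₀ {u} := by
    rw [← LinearMap.BilinForm.orthogonal_orthogonal D.nondegenerate (H43.polB_isRefl D.qf)
      (Submodule.span F₀ {u})]
    intro y hy
    rw [H43.polB_comm]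
    exact hperp y hy
  obtain ⟨c, rfl⟩ := Submodule.mem_span_singleton.1 he2
  rw [ri_smul] at he
  have hc : (c : F) ≠ 0 := fun h => hbad (κ ^ q)⁻¹ e1 (by
    rw [h, zero_smul, smul_zero, add_zero] at he
    rw [← he, hm'def, smul_smul, inv_mul_cancel₀ (pow_ne_zero _ hκ), one_smul])
  have hue : hh (ri P u) (ri P e1) = 0 := by
    rwa [he, h_add_right hF, h_smul_right hF, h_smul_right hF, hu, mul_zero, mul_zero, add_zero] at hum'
  have hee : hh (ri P e1) (ri P e1) = 0 := by
    simp only [he, h_add_left, h_add_right hF, h_smul_left, h_smul_right hF, hu, hue,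
      (h_eq_zero_comm hF).1 hue, mul_zero, add_zero] at hm'
    exact hm'
  refine ⟨hu, fun A t ht hA => ?_⟩
  set b := -(t / (2 * ζ * (c : F))) with hb
  have hbF : b ∈ F₀ := D.mem_of_fixed (by
    rw [hb, neg_pow_q hF, div_pow, mul_pow, mul_pow, D.skew, D.fixed D.two_mem, D.fixed c.2,
      show t ^ q = -t by linear_combination ht, mul_neg, neg_mul, neg_div_neg_eq])
  have hbt : t = -(2 * b * ζ * c) := by
    have := D.two; have := D.ne
    rw [hb]; field_simp
  obtain ⟨B, hB⟩ := exists_sr hF hu hm' hum' b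
  obtain ⟨C, hC⟩ := exists_sr hF hu hee hue b
  have e : B = C * A := suMat_ext fun z => by
    rw [hB z, suMat_mulVec_mul, hA, ut_mulVec, hC, hbt, he]
    simp only [h_add_left, h_add_right hF, h_smul_left, h_smul_right hF, hu, hue, D.skew, D.fixed c.2,
      D.fixed hbF]
    module
  rw [show A = C⁻¹ * B by rw [e]; group]
  exact mul_mem (inv_mem (D.root_rat hK u e1 hbF C hC)) (hr' b hbF B hB)

/-- An element keeping one point and moving an orthogonal one gives a centre. -/
theorem ctr_of_pair {g : SU n F q} (hg : g ∈ K) {u w : Fin n → F₀} (hu0 : u ≠ 0)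
    (hu : hh (ri P u) (ri P u) = 0) (hw : hh (ri P w) (ri P w) = 0) (huw : hh (ri P u) (ri P w) = 0)
    (hku : Kept P g u) (hkw : ¬ Kept P g w) :
    ∃ x : Fin n → F₀, x ≠ 0 ∧ hh (ri P x) (ri P x) = 0 ∧ IsCtr K (ri P x) := by
  have hF := D.hF
  obtain ⟨l, r, hl⟩ := hku
  have hne : suMat g *ᵥ ri P u ≠ 0 := fun h => hu0 (ri_injective (P := P) (by
    rw [← suMat_inv_mulVec g (ri P u), h, mulVec_zero, ri_zero]))
  have hl0 : l ≠ 0 := fun h => hne (by rw [hl, h, zero_smul])
  have hr0 : r ≠ 0 := fun h => hne (by rw [hl, h, ri_zero, smul_zero])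
  have hrr : hh (ri P r) (ri P r) = 0 := by
    have := suMat_h g (ri P u) (ri P u)
    rw [hl, h_smul_left, h_smul_right hF, hu] at this
    exact (mul_eq_zero.1 ((mul_eq_zero.1 this).resolve_left hl0)).resolve_left (pow_ne_zero _ hl0)
  refine ⟨r, hr0, hrr, D.ctr_of_root hK hr0 hrr (m := suMat g *ᵥ ri P w) (κ := l)
    (by rw [suMat_h, hw]) ?_ hl0 (fun b hb A hA => ?_) (fun c p hc => hkw ⟨c, p, hc⟩)⟩
  · have := suMat_h g (ri P u) (ri P w)
    rw [hl, h_smul_left, huw] at this
    exact (mul_eq_zero.1 this).resolve_left hl0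
  · have h := root_group hF (D.root_rat hK u w hb) hg
    refine h A fun z => ?_
    rw [hA z, hl, h_smul_right hF, mul_pow]
    module

/-- A kept point together with a moved one gives a centre. -/
theorem ctr_of_kept {g : SU n F q} (hg : g ∈ K) {v a : Fin n → F₀} (hv0 : v ≠ 0)
    (hv : hh (ri P v) (ri P v) = 0) (hkv : Kept P g v) (ha : hh (ri P a) (ri P a) = 0)
    (hka : ¬ Kept P g a) :
    ∃ x : Fin n → F₀, x ≠ 0 ∧ hh (ri P x) (ri P x) = 0 ∧ IsCtr K (ri P x) := by
  obtain ⟨w, hw0, hw, hvw, haw⟩ := D.exists_common v a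
  by_cases hkw : Kept P g w
  · exact D.ctr_of_pair hK hg hw0 hw ha (by rw [D.symm]; exact haw) hkw hka
  · exact D.ctr_of_pair hK hg hv0 hv hw hvw hkv hkw

omit hK in
theorem line_of_dep {x y : Fin n → F₀} (h : y ∈ Submodule.span F₀ {x} ∨ x ∈ Submodule.span F₀ {y}) :
    ∃ (l : F) (r : Fin n → F₀), ri P x + ζ • ri P y = l • ri P r := by
  rcases h with h | h <;> obtain ⟨c, rfl⟩ := Submodule.mem_span_singleton.1 h
  · exact ⟨1 + ζ * c, x, by rw [ri_smul]; module⟩
  · exact ⟨c + ζ, y, by rw [ri_smul]; module⟩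

omit hK in
/-- With all rational isotropic vectors as centres, every isotropic vector is one. -/
theorem ctr_isotropic (hc : ∀ w : Fin n → F₀, hh (ri P w) (ri P w) = 0 → IsCtr K (ri P w)) {z : V}
    (hz : hh z z = 0) : IsCtr K z := by
  obtain ⟨r1, r2, rfl⟩ := D.decomp z
  by_cases hd : r2 ∈ Submodule.span F₀ {r1} ∨ r1 ∈ Submodule.span F₀ {r2}
  · obtain ⟨l, r, e⟩ := D.line_of_dep (P := P) (ζ := ζ) hd
    rw [e] at hz ⊢
    rcases eq_or_ne l 0 with rfl | hl
    · rw [zero_smul]; exact ctr_zero K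
    · rw [h_smul_left, h_smul_right D.hF] at hz
      exact ctr_smul D.hF (hc r ((mul_eq_zero.1 ((mul_eq_zero.1 hz).resolve_left hl)).resolve_left
        (pow_ne_zero _ hl))) l
  push Not at hd
  obtain ⟨h21, h12⟩ := hd
  have hz' : hh (ri P r1) (ri P r1) - ζ ^ 2 * hh (ri P r2) (ri P r2) = 0 := by
    rw [h_add_left, h_smul_left, D.h_mixed, D.h_mixed, D.symm r1 r2] at hz
    linear_combination hz
  have hν : ζ ^ 2 ∈ F₀ := D.mem_of_fixed (by rw [← pow_mul, mul_comm, pow_mul, D.skew, neg_sq])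
  -- one reduction step
  have back : ∀ x : Fin n → F₀, hh (ri P x) (ri P x) = 0 → ∀ τ : F₀, ∀ r1' r2' : Fin n → F₀,
      IsCtr K (ri P r1' + ζ • ri P r2') →
      ri P r1' = ri P r1 + (τ * ζ ^ 2 * hh (ri P r2) (ri P x)) • ri P x →
      ri P r2' = ri P r2 + (τ * hh (ri P r1) (ri P x)) • ri P x →
      IsCtr K (ri P r1 + ζ • ri P r2) := by
    intro x hx τ r1' r2' hC e1 e2
    have h1 := ctr_step D.hF hC (hc x hx) (c := -(ζ * τ))
      (by rw [neg_pow_q D.hF, mul_pow, D.skew, D.fixed τ.2]; ring)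
    have e : hh (ri P r1' + ζ • ri P r2') (ri P x) =
        hh (ri P r1) (ri P x) + ζ * hh (ri P r2) (ri P x) := by
      rw [e1, e2]
      simp only [h_add_left, h_smul_left, hx, mul_zero, add_zero]
    rw [e] at h1
    rw [e1, e2] at h1
    convert h1 using 1
    module
  -- two isotropic rational parts
  have base : ∀ s1 s2 : Fin n → F₀, hh (ri P s1) (ri P s1) = 0 → hh (ri P s2) (ri P s2) = 0 →
      hh (ri P s1) (ri P s2) ≠ 0 → IsCtr K (ri P s1 + ζ • ri P s2) := by
    intro s1 s2 h1 h2 hne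
    refine ctr_comb D.hF (hc s1 h1) (hc s2 h2) hne ?_
    rw [div_pow, D.skew, D.fixed (D.rat _ _)]
    ring
  have zero_case : ∀ s1 s2 : Fin n → F₀, hh (ri P s1) (ri P s1) = 0 → hh (ri P s2) (ri P s2) = 0 →
      (∀ c : F₀, c • s1 ≠ s2) → s1 ≠ 0 → hh (ri P s1) (ri P s2) = 0 →
      ∃ x : Fin n → F₀, hh (ri P x) (ri P x) = 0 ∧ hh (ri P s1) (ri P x) = 0 ∧ hh (ri P s2) (ri P x) ≠ 0 := by
    intro s1 s2 _ _ hind _ _
    obtain ⟨x, hx, hxo, hx2⟩ := D.exists_val (Submodule.span F₀ {s1})
      ((finrank_span_singleton_le s1).trans (by omega)) (v := s2)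
      (fun h => by obtain ⟨c, hc⟩ := Submodule.mem_span_singleton.1 h; exact hind c hc)
    exact ⟨x, hx, hxo s1 (Submodule.mem_span_singleton_self s1), hx2⟩
  by_cases hN : hh (ri P r2) (ri P r2) = 0
  · have hN1 : hh (ri P r1) (ri P r1) = 0 := by rw [hN, mul_zero, sub_zero] at hz'; exact hz'
    by_cases hg : hh (ri P r1) (ri P r2) = 0
    · obtain ⟨x, hx, hx1, hx2⟩ := zero_case r1 r2 hN1 hN
        (fun c h => h21 (Submodule.mem_span_singleton.2 ⟨c, h⟩))
        (fun h => h12 (h ▸ zero_mem _)) hg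
      set k : F₀ := ⟨ζ ^ 2 * hh (ri P r2) (ri P x), mul_mem hν (D.rat _ _)⟩ with hkdef
      refine back x hx 1 (r1 + k • x) r2 (base _ _ ?_ hN ?_)
        (by rw [ri_add, ri_smul]; simp [hkdef, mul_assoc]) (by simp [hx1])
      · simp only [ri_add, ri_smul, h_add_left, h_add_right D.hF, h_smul_left, h_smul_right D.hF,
          hN1, hx, hx1, D.symm r1 x]
        ring
      · simp only [ri_add, ri_smul, h_add_left, h_smul_left, hg, D.symm r2 x, zero_add, hkdef]
        exact mul_ne_zero (mul_ne_zero (pow_ne_zero _ D.ne) hx2) hx2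
    · exact base _ _ hN1 hN hg
  · obtain ⟨x, hx, hxo, hx1⟩ := D.exists_val (Submodule.span F₀ {r1 - r2})
      ((finrank_span_singleton_le _).trans (by omega)) (v := r1) (fun h => by
        obtain ⟨c, hc⟩ := Submodule.mem_span_singleton.1 h
        rcases eq_or_ne c 0 with rfl | hc0
        · rw [zero_smul] at hc
          exact h12 (hc ▸ zero_mem _)
        · refine h21 (Submodule.mem_span_singleton.2 ⟨(c - 1) / c, ?_⟩)
          have h' := congrArg (fun t => c⁻¹ • t) hc
          simp only [smul_smul, inv_mul_cancel₀ hc0, one_smul] at h'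
          rw [sub_div, sub_smul, one_div, ← h', div_self hc0, one_smul]
          abel)
    have he : hh (ri P r2) (ri P x) = hh (ri P r1) (ri P x) := by
      have := hxo (r1 - r2) (Submodule.mem_span_singleton_self _)
      rw [ri_sub, h_sub_left, sub_eq_zero] at this
      exact this.symm
    set α := hh (ri P r1) (ri P x) with hα
    set τ : F₀ := ⟨-hh (ri P r2) (ri P r2) / (2 * α ^ 2), div_mem (neg_mem (D.rat _ _))
      (mul_mem D.two_mem (pow_mem (D.rat _ _) 2))⟩ with hτ
    set k1 : F₀ := ⟨τ * ζ ^ 2 * α, mul_mem (mul_mem τ.2 hν) (D.rat _ _)⟩ with hk1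
    set k2 : F₀ := ⟨τ * α, mul_mem τ.2 (D.rat _ _)⟩ with hk2
    have hτ' : 2 * (τ : F) * α * α = -hh (ri P r2) (ri P r2) := by
      have h2 := D.two
      rw [hτ]
      simp only
      field_simp
    set s1 := r1 + k1 • x with hs1def
    set s2 := r2 + k2 • x with hs2def
    have hi1 : hh (ri P s1) (ri P s1) = 0 := by
      simp only [hs1def, ri_add, ri_smul, h_add_left, h_add_right D.hF, h_smul_left,
        h_smul_right D.hF, hx, D.symm r1 x, D.fixed k1.2, ← hα]
      simp only [hk1]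
      linear_combination hz' + ζ ^ 2 * hτ'
    have hi2 : hh (ri P s2) (ri P s2) = 0 := by
      simp only [hs2def, ri_add, ri_smul, h_add_left, h_add_right D.hF, h_smul_left,
        h_smul_right D.hF, hx, D.symm r2 x, D.fixed k2.2, he, ← hα]
      simp only [hk2]
      linear_combination hτ'
    refine back x hx τ s1 s2 ?_ (by rw [hs1def, ri_add, ri_smul, he])
      (by rw [hs2def, ri_add, ri_smul])
    by_cases hg : hh (ri P s1) (ri P s2) = 0
    · -- a second step
      by_cases heq : s1 = s2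
      · have := ctr_smul D.hF (hc s1 hi1) (1 + ζ)
        rw [← heq]
        convert this using 1
        module
      have hind : ∀ c : F₀, c • s1 ≠ s2 := by
        intro c hc'
        have e := congrArg (fun t => hh (ri P t) (ri P x)) hc'
        simp only [ri_smul, h_smul_left, hs1def, hs2def, ri_add, h_add_left, hx, mul_zero, add_zero,
          he, ← hα] at e
        have hc1 : (c : F) = 1 := mul_right_cancel₀ hx1 (e.trans (one_mul α).symm)
        rw [show c = 1 from Subtype.ext hc1, one_smul] at hc'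
        exact heq hc'
      obtain ⟨y, hy, hy1, hy2⟩ := zero_case s1 s2 hi1 hi2 hind
        (fun h => by
          have e := congrArg (fun t => hh (ri P t) (ri P x)) h
          simp only [hs1def, ri_add, ri_smul, h_add_left, h_smul_left, hx, mul_zero, add_zero,
            ri_zero, h_zero_left, ← hα] at e
          exact hx1 e) hg
      set k : F₀ := ⟨ζ ^ 2 * hh (ri P s2) (ri P y), mul_mem hν (D.rat _ _)⟩ with hkdef
      have hC : IsCtr K (ri P (s1 + k • y) + ζ • ri P s2) := by
        refine base _ _ ?_ hi2 ?_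
        · simp only [ri_add, ri_smul, h_add_left, h_add_right D.hF, h_smul_left, h_smul_right D.hF,
            hi1, hy, hy1, D.symm s1 y]
          ring
        · simp only [ri_add, ri_smul, h_add_left, h_smul_left, hg, D.symm s2 y, zero_add, hkdef]
          exact mul_ne_zero (mul_ne_zero (pow_ne_zero _ D.ne) hy2) hy2
      have h1 := ctr_step D.hF hC (hc y hy) (c := -ζ) (by rw [neg_pow_q D.hF, D.skew]; ring)
      have e : hh (ri P (s1 + k • y) + ζ • ri P s2) (ri P y) = ζ * hh (ri P s2) (ri P y) := by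
        simp only [ri_add, ri_smul, h_add_left, h_smul_left, hy, hy1, mul_zero, add_zero, zero_add]
      rw [e, ri_add, ri_smul, hkdef] at h1
      convert h1 using 1
      module
    · exact base _ _ hi1 hi2 hg

omit hK in
/-- An element keeping the rational isotropic points on rational lines keeps the structure up to a scalar. -/
theorem exists_scalar {g : SU n F q}
    (h : ∀ a : Fin n → F₀, hh (ri P a) (ri P a) = 0 →
      ∃ (l : F) (r : Fin n → F₀), suMat g *ᵥ ri P a = l • ri P r) :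
    ∃ c : F, c ≠ 0 ∧ ∀ a : Fin n → F₀, ∃ r : Fin n → F₀, suMat g *ᵥ ri P a = c • ri P r := by
  have ginj : Function.Injective (fun v => suMat g *ᵥ v) := fun x y e => by
    have e' : suMat g⁻¹ *ᵥ (suMat g *ᵥ x) = suMat g⁻¹ *ᵥ (suMat g *ᵥ y) :=
      congrArg (fun v => suMat g⁻¹ *ᵥ v) e
    rwa [suMat_inv_mulVec, suMat_inv_mulVec] at e'
  -- equal scalars for an orthogonal pair
  have pair : ∀ {a b : Fin n → F₀} {l m : F} {r s : Fin n → F₀}, hh (ri P a) (ri P a) = 0 →
      hh (ri P b) (ri P b) = 0 → hh (ri P a) (ri P b) = 0 → b ∉ Submodule.span F₀ {a} →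
      a ≠ 0 → suMat g *ᵥ ri P a = l • ri P r → suMat g *ᵥ ri P b = m • ri P s → l / m ∈ F₀ := by
    intro a b l m r s ha hb hab hind ha0 hl hm
    obtain ⟨k, t, hk⟩ := h (a + b) (by
      rw [ri_add, h_add_left, h_add_right D.hF, h_add_right D.hF, ha, hb, hab, D.symm a b, hab]
      simp)
    rw [ri_add, mulVec_add, hl, hm] at hk
    have hk0 : k ≠ 0 := fun h0 => by
      rw [h0, zero_smul, ← hl, ← hm, ← mulVec_add, ← ri_add] at hk
      have := ri_injective ((ginj (hk.trans (mulVec_zero _).symm)).trans ri_zero.symm)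
      exact hind (Submodule.mem_span_singleton.2 ⟨-1, by
        rw [neg_one_smul]; exact (eq_neg_of_add_eq_zero_right this).symm⟩)
    obtain ⟨p1, p2, hp⟩ := D.coords (l / k)
    obtain ⟨o1, o2, ho⟩ := D.coords (m / k)
    have e : ri P (p1 • r + o1 • s - t) + ζ • ri P (p2 • r + o2 • s) = 0 := by
      have e0 : (l / k) • ri P r + (m / k) • ri P s = ri P t := by
        have := congrArg (fun v => k⁻¹ • v) hk
        simp only [smul_add, smul_smul, inv_mul_cancel₀ hk0, one_smul] at this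
        rwa [inv_mul_eq_div, inv_mul_eq_div] at this
      rw [ri_sub, ← e0, hp, ho, ri_add, ri_add, ri_smul, ri_smul, ri_smul, ri_smul]
      module
    have e2 := (D.ri_sep e).2
    by_cases hp2 : p2 = 0
    · by_cases ho2 : o2 = 0
      · have : l / m = (l / k) / (m / k) := by field_simp
        rw [this, hp, ho, hp2, ho2]
        simp only [ZeroMemClass.coe_zero, mul_zero, add_zero]
        exact div_mem p1.2 o1.2
      · exfalso
        rw [hp2, zero_smul, zero_add, smul_eq_zero] at e2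
        rw [e2.resolve_left ho2, ri_zero, smul_zero] at hm
        have := ri_injective ((ginj (hm.trans (mulVec_zero _).symm)).trans ri_zero.symm)
        exact hind (this ▸ zero_mem _)
    · exfalso
      have hr : r = (-(o2 / p2)) • s := by
        have := congrArg (fun v => p2⁻¹ • v) e2
        simp only [smul_add, smul_smul, inv_mul_cancel₀ hp2, one_smul, smul_zero] at this
        rw [neg_smul, div_eq_inv_mul]
        exact eq_neg_of_add_eq_zero_left this
      rw [hr, ri_smul, smul_smul] at hl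
      rcases eq_or_ne m 0 with rfl | hm0
      · rw [zero_smul] at hm
        have := ri_injective ((ginj (hm.trans (mulVec_zero _).symm)).trans ri_zero.symm)
        exact hind (this ▸ zero_mem _)
      set c : F := l * ((-(o2 / p2) : F₀) : F) / m with hc
      have hab' : ri P a = c • ri P b := ginj (by
        show suMat g *ᵥ ri P a = suMat g *ᵥ (c • ri P b)
        rw [mulVec_smul, hm, smul_smul, hc, div_mul_cancel₀ _ hm0, hl])
      obtain ⟨c1, c2, hc'⟩ := D.coords c
      have e3 : ri P (a - c1 • b) + ζ • ri P ((-c2) • b) = 0 := by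
        rw [ri_sub, hab', hc', ri_smul, ri_smul, NegMemClass.coe_neg]
        module
      have e4 := (D.ri_sep e3).1
      rw [sub_eq_zero] at e4
      rcases eq_or_ne c1 0 with h0 | h0
      · exact ha0 (by rw [e4, h0, zero_smul])
      · exact hind (Submodule.mem_span_singleton.2
          ⟨c1⁻¹, by rw [e4, smul_smul, inv_mul_cancel₀ h0, one_smul]⟩)
  obtain ⟨a₀, ha₀, -, ha₀0⟩ := D.exists_out ⊥ ⊥ (by simp) (by simp)
  rw [Submodule.mem_bot] at ha₀0
  obtain ⟨l₀, r₀, hl₀⟩ := h a₀ ha₀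
  have hl₀0 : l₀ ≠ 0 := fun h0 => ha₀0 (by
    rw [h0, zero_smul] at hl₀
    exact ri_injective ((ginj (hl₀.trans (mulVec_zero _).symm)).trans ri_zero.symm))
  refine ⟨l₀, hl₀0, ?_⟩
  have iso : ∀ a : Fin n → F₀, hh (ri P a) (ri P a) = 0 → ∃ r : Fin n → F₀, suMat g *ᵥ ri P a = l₀ • ri P r := by
    intro a ha
    rcases eq_or_ne a 0 with rfl | ha0
    · exact ⟨0, by rw [ri_zero, mulVec_zero, smul_zero]⟩
    obtain ⟨l, r, hl⟩ := h a ha
    by_cases hdep : a₀ ∈ Submodule.span F₀ {a}
    · obtain ⟨k, hk⟩ := Submodule.mem_span_singleton.1 hdep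
      have hk0 : k ≠ 0 := fun h0 => ha₀0 (by rw [← hk, h0, zero_smul])
      exact ⟨k⁻¹ • r₀, by rw [show a = k⁻¹ • a₀ by rw [← hk, smul_smul, inv_mul_cancel₀ hk0, one_smul],
        ri_smul, mulVec_smul, hl₀, ri_smul, smul_comm]⟩
    by_cases hao : hh (ri P a) (ri P a₀) = 0
    · have t := pair ha ha₀ hao hdep ha0 hl hl₀
      refine ⟨(⟨l / l₀, t⟩ : F₀) • r, ?_⟩
      rw [hl, ri_smul, smul_smul]
      show l • ri P r = (l₀ * (l / l₀)) • ri P r
      rw [mul_div_cancel₀ _ hl₀0]
    obtain ⟨b, hb0, hb, hba, hba₀⟩ := D.exists_common a a₀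
    have hbo : ∀ x ∈ ({a, a₀} : Set (Fin n → F₀)), hh (ri P x) (ri P b) = 0 := fun x hx => by
      rcases hx with rfl | rfl
      exacts [hba, hba₀]
    have hbn1 : b ∉ Submodule.span F₀ {a} := fun hc => by
      obtain ⟨k, hk⟩ := Submodule.mem_span_singleton.1 hc
      rw [D.symm, ← hk, ri_smul, h_smul_left] at hba₀
      exact hao ((mul_eq_zero.1 hba₀).resolve_left fun h0 => hb0 (by
        rw [← hk, show k = 0 from Subtype.ext h0, zero_smul]))
    have hbn2 : b ∉ Submodule.span F₀ {a₀} := fun hc => by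
      obtain ⟨k, hk⟩ := Submodule.mem_span_singleton.1 hc
      rw [← hk, ri_smul, h_smul_right D.hF] at hba
      exact hao ((mul_eq_zero.1 hba).resolve_left fun h0 => hb0 (by
        rw [← hk, show k = 0 from Subtype.ext (pow_q_eq_zero D.hF |>.1 h0), zero_smul]))
    obtain ⟨m, s, hm⟩ := h b hb
    have hm0 : m ≠ 0 := fun h0 => hb0 (by
      rw [h0, zero_smul] at hm
      exact ri_injective ((ginj (hm.trans (mulVec_zero _).symm)).trans ri_zero.symm))
    have t1 := pair ha hb (hbo a (by simp))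
      hbn1 ha0 hl hm
    have t2 := pair ha₀ hb (hbo a₀ (by simp))
      hbn2 ha₀0 hl₀ hm
    have t3 : l / l₀ ∈ F₀ := by
      rw [show l / l₀ = l / m / (l₀ / m) by field_simp]
      exact div_mem t1 t2
    refine ⟨(⟨l / l₀, t3⟩ : F₀) • r, ?_⟩
    rw [hl, ri_smul, smul_smul]
    show l • ri P r = (l₀ * (l / l₀)) • ri P r
    rw [mul_div_cancel₀ _ hl₀0]
  intro a
  induction D.mem_span_singular a using Submodule.span_induction with
  | mem x hx => exact iso x hx
  | zero => exact ⟨0, by rw [ri_zero, mulVec_zero, smul_zero]⟩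
  | add x y _ _ hx hy =>
    obtain ⟨r, hr⟩ := hx
    obtain ⟨s, hs⟩ := hy
    exact ⟨r + s, by rw [ri_add, mulVec_add, hr, hs, ri_add, smul_add]⟩
  | smul c x _ hx =>
    obtain ⟨r, hr⟩ := hx
    exact ⟨c • r, by rw [ri_smul, mulVec_smul, hr, ri_smul, smul_comm]⟩

/-- An element moving a rational isotropic point gives a rational centre. -/
theorem exists_ctr {g : SU n F q} (hg : g ∈ K) {a : Fin n → F₀} (ha : hh (ri P a) (ri P a) = 0) (hka : ¬ Kept P g a) :
    ∃ x : Fin n → F₀, x ≠ 0 ∧ hh (ri P x) (ri P x) = 0 ∧ IsCtr K (ri P x) := by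
  haveI : Finite F₀ := inferInstance
  have hF := D.hF
  have hn := D.hn
  by_cases hkv : ∃ v : Fin n → F₀, v ≠ 0 ∧ hh (ri P v) (ri P v) = 0 ∧ Kept P g v
  · obtain ⟨v, hv0, hv, hk⟩ := hkv
    exact D.ctr_of_kept hK hg hv0 hv hk ha hka
  push Not at hkv
  by_contra hno
  obtain ⟨u, hu, -, hu0⟩ := D.exists_out ⊥ ⊥ (by simp) (by simp)
  rw [Submodule.mem_bot] at hu0
  obtain ⟨x1, x2, hy⟩ := D.decomp (suMat g⁻¹ *ᵥ ri P u)
  set W := (H43.polB D.qf).orthogonal (Submodule.span F₀ {x1, x2}) with hW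
  have hWdim : n ≤ Module.finrank F₀ W + 2 := D.finrank_perp_two x1 x2
  -- planes of two orthogonal anisotropic vectors
  have plane : ∀ {r r' : Fin n → F₀}, r ∈ W → r' ∈ W → D.qf r ≠ 0 → D.qf r' ≠ 0 →
      H43.polB D.qf r r' = 0 → Dfd P g (Submodule.span F₀ {r, r'}) := by
    intro r r' hrW hr'W hr hr' hrr'
    obtain ⟨A, hA⟩ := exists_refPair hF (r := ri P r) (r' := ri P r') (fun h => hr (D.qf_eq_zero.2 h))
      (fun h => hr' (D.qf_eq_zero.2 h)) (D.polB_eq_zero.1 hrr')
    set g' := g * A * g⁻¹ with hg'def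
    have hg' : g' ∈ K := mul_mem (mul_mem hg (D.refPair_mem hK hA)) (inv_mem hg)
    have hz : ∀ {x : Fin n → F₀}, x ∈ W → hh (suMat g⁻¹ *ᵥ ri P u) (ri P x) = 0 := fun {x} hx => by
      rw [hy]
      refine D.h_mixed_zero' ?_ ?_
      · rw [D.symm]; exact D.polB_eq_zero.1 (hx x1 (Submodule.subset_span (by simp)))
      · rw [D.symm]; exact D.polB_eq_zero.1 (hx x2 (Submodule.subset_span (by simp)))
    have hfix : suMat g' *ᵥ ri P u = ri P u := by
      rw [hg'def, suMat_mulVec_mul, suMat_mulVec_mul, hA, hz hrW, hz hr'W]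
      simp only [mul_zero, zero_div, zero_smul, sub_zero, suMat_mulVec_inv]
    have hall : ∀ b : Fin n → F₀, hh (ri P b) (ri P b) = 0 → Kept P g' b := fun b hb => by
      by_contra hkb
      exact hno (D.ctr_of_kept hK hg' hu0 hu ⟨1, u, by rw [hfix, one_smul]⟩ hb hkb)
    obtain ⟨c, -, hc⟩ := D.exists_scalar (g := g') hall
    have hcF : c ∈ F₀ := by
      obtain ⟨s, hs⟩ := hc u
      obtain ⟨c1, c2, rfl⟩ := D.coords c
      rw [hfix] at hs
      have h0 : ri P (u - c1 • s) + ζ • ri P ((-c2) • s) = 0 := by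
        rw [ri_sub, ri_smul, ri_smul, NegMemClass.coe_neg]
        nth_rewrite 1 [hs]
        module
      have h2 := (D.ri_sep h0).2
      rcases smul_eq_zero.1 h2 with h | h
      · rw [neg_eq_zero] at h
        rw [h, ZeroMemClass.coe_zero, mul_zero, add_zero]
        exact c1.2
      · rw [h, ri_zero, smul_zero] at hs
        exact absurd (ri_injective (hs.trans ri_zero.symm)) hu0
    set L := Matrix.toLin' (suMat g) with hL
    set M := (ext P (Submodule.span F₀ {r, r'})).map L with hM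
    have hgr : suMat g *ᵥ ri P r ∈ M := ⟨_, ri_mem_ext (Submodule.subset_span (by simp)), Matrix.toLin'_apply _ _⟩
    have hgr' : suMat g *ᵥ ri P r' ∈ M := ⟨_, ri_mem_ext (Submodule.subset_span (by simp)), Matrix.toLin'_apply _ _⟩
    have hgA := refPair_conj hA g
    rw [← hg'def] at hgA
    have hdiff : ∀ z, suMat g' *ᵥ z - z ∈ M := fun z => by
      rw [hgA z, sub_right_comm, sub_right_comm z, sub_self, zero_sub]
      exact sub_mem (neg_mem (M.smul_mem _ hgr)) (M.smul_mem _ hgr')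
    refine ⟨{ carrier := {y | ri P y ∈ M}
              add_mem' := fun {x y} hx hy => by show ri P (x + y) ∈ M; rw [ri_add]; exact add_mem hx hy
              zero_mem' := by show ri P 0 ∈ M; rw [ri_zero]; exact zero_mem M
              smul_mem' := fun k x hx => by show ri P (k • x) ∈ M; rw [ri_smul]; exact M.smul_mem _ hx },
      le_antisymm (fun m hm => ?_) ?_⟩
    · -- the plane is the image of `g' - 1`
      have hneg : suMat g' *ᵥ m = -m := by
        obtain ⟨t, ht, rfl⟩ := hm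
        have : ext P (Submodule.span F₀ {r, r'}) ≤
            LinearMap.ker (Matrix.toLin' (suMat A) + LinearMap.id) := by
          rw [ext, Submodule.span_le]
          rintro _ ⟨x, hx, rfl⟩
          obtain ⟨p, o, rfl⟩ := Submodule.mem_span_pair.1 hx
          show Matrix.toLin' (suMat A) _ + _ = 0
          have h1 : hh (ri P r) (ri P r) ≠ 0 := fun h => hr (D.qf_eq_zero.2 h)
          have h2 : hh (ri P r') (ri P r') ≠ 0 := fun h => hr' (D.qf_eq_zero.2 h)
          rw [Matrix.toLin'_apply, hA, LinearMap.id_apply]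
          simp only [ri_add, ri_smul, h_add_left, h_smul_left, D.polB_eq_zero.1 hrr',
            (h_eq_zero_comm hF).1 (D.polB_eq_zero.1 hrr'), mul_zero, add_zero, zero_add]
          match_scalars <;> field_simp <;> ring
        have h' := this ht
        rw [LinearMap.mem_ker, LinearMap.add_apply, Matrix.toLin'_apply, LinearMap.id_apply,
          add_eq_zero_iff_eq_neg] at h'
        rw [Matrix.toLin'_apply, hg'def, suMat_mulVec_mul, suMat_mulVec_mul, suMat_inv_mulVec, h',
          mulVec_neg]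
      obtain ⟨p, o, hpo⟩ := D.decomp (-(2 : F)⁻¹ • m)
      obtain ⟨p', hp'⟩ := hc p
      obtain ⟨o', ho'⟩ := hc o
      have e : m = ri P ((⟨c, hcF⟩ : F₀) • p' - p) + ζ • ri P ((⟨c, hcF⟩ : F₀) • o' - o) := by
        have h := congrArg (fun v => suMat g' *ᵥ v - v) hpo
        simp only [mulVec_add, mulVec_smul, hp', ho', hneg] at h
        rw [ri_sub, ri_sub, ri_smul, ri_smul]
        rw [show -(2 : F)⁻¹ • -m - -(2 : F)⁻¹ • m = m by
          have := D.two
          match_scalars
          field_simp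
          ring] at h
        rw [h]
        module
      have hmem : ∀ {x y : Fin n → F₀}, suMat g' *ᵥ ri P x = c • ri P y →
          ri P ((⟨c, hcF⟩ : F₀) • y - x) ∈ M := fun {x y} hxy => by
        rw [ri_sub, ri_smul]
        exact hxy ▸ hdiff (ri P x)
      rw [e]
      exact D.mem_ext.2 ⟨_, hmem hp', _, hmem ho', rfl⟩
    · rw [ext, Submodule.span_le]
      rintro _ ⟨y, hy, rfl⟩
      exact hy
  -- lines of anisotropic vectors
  have line : ∀ {r : Fin n → F₀}, r ∈ W → D.qf r ≠ 0 → Dfd P g (Submodule.span F₀ {r}) := by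
    intro r hrW hr
    set W' := W ⊓ LinearMap.ker (H43.polB D.qf r) with hW'
    have hW'dim : Module.finrank F₀ W ≤ Module.finrank F₀ W' + 1 := by
      have h1 := Submodule.finrank_sup_add_finrank_inf_eq W (LinearMap.ker (H43.polB D.qf r))
      have h2 := Submodule.finrank_le (W ⊔ LinearMap.ker (H43.polB D.qf r))
      have h3 := LinearMap.finrank_range_add_finrank_ker (H43.polB D.qf r)
      have h4 : Module.finrank F₀ (LinearMap.range (H43.polB D.qf r)) ≤ 1 :=
        (Submodule.finrank_le _).trans_eq (Module.finrank_self F₀)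
      rw [← hW'] at h1
      omega
    obtain ⟨r1, hr1W, hr1⟩ : ∃ r1 ∈ W', D.qf r1 ≠ 0 := by
      by_contra h
      push Not at h
      have hle : W' ⊔ (F₀ ∙ r) ≤ (H43.polB D.qf).orthogonal W' := by
        refine sup_le (fun x hx y hy => ?_) ((Submodule.span_singleton_le_iff_mem r _).2 fun y hy => ?_)
        · have := H43.qmap_add (Q := D.qf) y x
          rwa [h _ (add_mem hy hx), h y hy, h x hx, zero_add, zero_add, eq_comm] at this
        · show H43.polB D.qf y r = 0
          rw [H43.polB_comm]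
          exact LinearMap.mem_ker.1 hy.2
      have h1 := Submodule.finrank_mono hle
      have h2 := H43.finrank_orth_add D.nondegenerate W'
      rw [Module.finrank_fin_fun] at h2
      have h3 : W' < W' ⊔ (F₀ ∙ r) := lt_of_le_not_ge le_sup_left fun h' =>
        hr (h r (h' (Submodule.mem_sup_right (Submodule.mem_span_singleton_self r))))
      have h4 := Submodule.finrank_lt_finrank_of_lt h3
      omega
    obtain ⟨w, hwW, hw⟩ : ∃ w ∈ W', w ∉ Submodule.span F₀ {r1} := by
      by_contra h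
      push Not at h
      have := (Submodule.finrank_mono h).trans (finrank_span_singleton_le r1)
      omega
    obtain ⟨r2, hr2W, hr2, hr21⟩ := D.exists_aniso_out hr1W hr1 (Submodule.mem_span_singleton_self r1) hwW hw
    have p1 := plane hrW hr1W.1 hr hr1 (LinearMap.mem_ker.1 hr1W.2)
    have p2 := plane hrW hr2W.1 hr hr2 (LinearMap.mem_ker.1 hr2W.2)
    have e : Submodule.span F₀ {r, r1} ⊓ Submodule.span F₀ {r, r2} = Submodule.span F₀ {r} := by
      refine le_antisymm (fun x hx => ?_) (le_inf (Submodule.span_mono (by simp)) (Submodule.span_mono (by simp)))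
      obtain ⟨a1, b1, rfl⟩ := Submodule.mem_span_pair.1 hx.1
      obtain ⟨a2, b2, he⟩ := Submodule.mem_span_pair.1 hx.2
      have h0 := congrArg (H43.polB D.qf r) he
      simp only [map_add, map_smul, LinearMap.mem_ker.1 hr1W.2, LinearMap.mem_ker.1 hr2W.2,
        H43.polB_self, smul_eq_mul, mul_zero, add_zero] at h0
      have ha12 : a2 = a1 := mul_right_cancel₀ (mul_ne_zero D.two₀ hr) h0
      rw [ha12, add_right_inj] at he
      rcases eq_or_ne b2 0 with hb | hb
      · rw [hb, zero_smul] at he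
        rw [← he, add_zero]
        exact Submodule.smul_mem _ _ (Submodule.mem_span_singleton_self r)
      · exact absurd (Submodule.mem_span_singleton.2 ⟨b2⁻¹ * b1, by
          rw [← smul_smul, ← he, smul_smul, inv_mul_cancel₀ hb, one_smul]⟩) hr21
    exact e ▸ D.dfd_inf p1 p2
  have pairs : ∀ {r r' : Fin n → F₀}, r ∈ W → r' ∈ W → D.qf r ≠ 0 → D.qf r' ≠ 0 →
      Dfd P g (Submodule.span F₀ {r, r'}) := fun {r r'} h1 h2 h3 h4 => by
    rw [Submodule.span_insert]
    exact dfd_sup (line h1 h3) (line h2 h4)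
  -- a singular vector on two such planes
  obtain ⟨v, hvW, hv0, hv⟩ := H43.exists_singular_in (Q := D.qf) W (by omega)
  obtain ⟨r, hrW, hr⟩ := D.exists_aniso (W := W) (by omega)
  have second : ∀ {r : Fin n → F₀}, r ∈ W → D.qf r ≠ 0 →
      Dfd P g (Submodule.span F₀ {r, v}) := by
    intro r hrW hr
    by_cases h1 : D.qf (r + v) = 0
    · have h2 : D.qf (r + -v) ≠ 0 := fun h2 => by
        rw [D.qf_add, QuadraticMap.map_neg, map_neg, hv] at h2
        rw [D.qf_add, hv] at h1
        have : (2 : F₀) * D.qf r = 0 := by linear_combination h1 + h2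
        exact hr ((mul_eq_zero.1 this).resolve_left D.two₀)
      have e : Submodule.span F₀ {r, r + -v} = Submodule.span F₀ {r, v} := by
        apply le_antisymm <;> rw [Submodule.span_le, Set.insert_subset_iff, Set.singleton_subset_iff] <;>
          refine ⟨Submodule.subset_span (by simp), Submodule.mem_span_pair.2 ?_⟩
        · exact ⟨1, -1, by module⟩
        · exact ⟨1, -1, by module⟩
      exact e ▸ pairs hrW (add_mem hrW (neg_mem hvW)) hr h2
    · have e : Submodule.span F₀ {r, r + v} = Submodule.span F₀ {r, v} := by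
        apply le_antisymm <;> rw [Submodule.span_le, Set.insert_subset_iff, Set.singleton_subset_iff] <;>
          refine ⟨Submodule.subset_span (by simp), Submodule.mem_span_pair.2 ?_⟩
        · exact ⟨1, 1, by module⟩
        · exact ⟨-1, 1, by module⟩
      exact e ▸ pairs hrW (add_mem hrW hvW) hr h1
  obtain ⟨w, hwW, hw⟩ : ∃ w ∈ W, w ∉ Submodule.span F₀ {r, v} := by
    by_contra h
    push Not at h
    have := (Submodule.finrank_mono h).trans ((finrank_span_insert_le _ _).trans
      (Nat.add_le_add_right (finrank_span_singleton_le v) 1))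
    omega
  obtain ⟨r3, hr3W, hr3, hr3n⟩ := D.exists_aniso_out hrW hr (Submodule.subset_span (by simp)) hwW hw
  have e : Submodule.span F₀ {r, v} ⊓ Submodule.span F₀ {r3, v} = Submodule.span F₀ {v} := by
    refine le_antisymm (fun x hx => ?_) (le_inf (Submodule.span_mono (by simp)) (Submodule.span_mono (by simp)))
    obtain ⟨a1, b1, he⟩ := Submodule.mem_span_pair.1 hx.2
    rcases eq_or_ne a1 0 with h | h
    · rw [← he, h, zero_smul, zero_add]
      exact Submodule.smul_mem _ _ (Submodule.mem_span_singleton_self v)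
    · refine absurd ?_ hr3n
      have h' : a1 • r3 ∈ Submodule.span F₀ {r, v} := by
        rw [show a1 • r3 = x - b1 • v by rw [← he, add_sub_cancel_right]]
        exact sub_mem hx.1 (Submodule.smul_mem _ _ (Submodule.subset_span (by simp)))
      simpa [smul_smul, inv_mul_cancel₀ h] using Submodule.smul_mem _ a1⁻¹ h'
  obtain ⟨Y, hY⟩ := e ▸ D.dfd_inf (second hrW hr) (second hr3W hr3)
  have hgv : suMat g *ᵥ ri P v ∈ ext P Y :=
    hY ▸ ⟨_, ri_mem_ext (Submodule.mem_span_singleton_self v), Matrix.toLin'_apply _ _⟩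
  obtain ⟨y, hyY, hy0⟩ : ∃ y ∈ Y, y ≠ 0 := by
    by_contra h
    push Not at h
    rw [(Submodule.eq_bot_iff Y).2 h, ext, Submodule.bot_coe, Set.image_singleton, ri_zero,
      Submodule.span_zero_singleton, Submodule.mem_bot] at hgv
    apply hv0
    apply ri_injective (P := P)
    rw [← suMat_inv_mulVec g (ri P v), hgv, mulVec_zero, ri_zero]
  have hy' : ri P y ∈ (ext P (Submodule.span F₀ {v})).map (Matrix.toLin' (suMat g)) := hY ▸ ri_mem_ext hyY
  obtain ⟨t, ht, hty⟩ := hy'
  obtain ⟨a1, ha1, b1, hb1, rfl⟩ := D.mem_ext.1 ht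
  obtain ⟨k1, rfl⟩ := Submodule.mem_span_singleton.1 ha1
  obtain ⟨k2, rfl⟩ := Submodule.mem_span_singleton.1 hb1
  rw [Matrix.toLin'_apply, ri_smul, ri_smul, smul_smul, ← add_smul, mulVec_smul] at hty
  rcases eq_or_ne ((k1 : F) + ζ * k2) 0 with h | h
  · rw [h, zero_smul] at hty
    exact hy0 (ri_injective (hty.symm.trans ri_zero.symm))
  · exact hkv v hv0 (D.qf_eq_zero.1 hv)
      ⟨((k1 : F) + ζ * k2)⁻¹, y, by rw [← hty, smul_smul, inv_mul_cancel₀ h, one_smul]⟩

/-- A group containing the rational isometries and moving a rational isotropic point is everything. -/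
theorem eq_top_of_moves {g : SU n F q} (hg : g ∈ K) {a : Fin n → F₀} (haa : hh (ri P a) (ri P a) = 0)
    (hbad : ∀ (l : F) (r : Fin n → F₀), suMat g *ᵥ ri P a ≠ l • ri P r) : K = ⊤ := by
  obtain ⟨x, hx0, hx, hc⟩ := D.exists_ctr hK hg haa fun ⟨l, r, h⟩ => hbad l r h
  have := D.hn
  exact eq_top_of_ctr D.hF (by omega) K fun z hz =>
    D.ctr_isotropic (fun w hw => D.ctr_all hK hx0 hx hc hw) hz

end Setup

end H86.SU6.Orth
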