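import Cfsg.Agent.S5658

/-!
Subfield subgroups of odd prime index in SU_n(q) are maximal from dimension 6 on.
-/

set_option autoImplicit false
set_option linter.unusedSectionVars false

namespace H86.SU6

open Matrix Cfsg H50
open scoped MatrixGroups

section basics

open Cfsg.Geo (IsUnitaryForm)
open H38 (ufv exists_dot_sep uf_add_right uf_smul_right uf_zero_left uf_zero_right ufv_dot ufv_add
  ufv_smul ufv_injective ufv_surjective sigma_ne exists_norm_eq exists_trace_eq)

variable {ι : Type} [Fintype ι] [DecidableEq ι] {F : Type*} [Field F] {σ : F ≃+* F}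
  {f : (ι → F) → (ι → F) → F} (hf : IsUnitaryForm σ f)
include hf

/-- Isotropic vectors with three prescribed values, from dimension 6 on. -/
theorem exists_iso_three [Finite F] (hn : 6 ≤ Fintype.card ι) (a b c : ι → F)
    (hind : ∀ r s t : F, r • a + s • b + t • c = 0 → r = 0 ∧ s = 0 ∧ t = 0) (x₁ x₂ x₃ : F) :
    ∃ y, f y y = 0 ∧ f y a = x₁ ∧ f y b = x₂ ∧ f y c = x₃ := by
  have hdual : ∀ a b c : ι → F, (∀ r s t : F, r • a + s • b + t • c = 0 → r = 0) →
      ∃ y, f y a = 1 ∧ f y b = 0 ∧ f y c = 0 := by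
    intro a b c h
    have hnot : ufv f a ∉ Submodule.span F ({ufv f b, ufv f c} : Set (ι → F)) := by
      rw [Submodule.mem_span_pair]
      rintro ⟨r, s, hrs⟩
      have : a = σ r • b + σ s • c := ufv_injective hf (by
        rw [ufv_add hf, ufv_smul hf, ufv_smul hf, hf.involutive, hf.involutive, hrs])
      exact one_ne_zero (h 1 (-σ r) (-σ s) (by rw [this, one_smul, neg_smul, neg_smul]; abel))
    obtain ⟨y, hy, hK⟩ := exists_dot_sep _ hnot
    rw [ufv_dot hf] at hy
    have hb := hK _ (Submodule.subset_span (Set.mem_insert _ _))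
    have hc := hK _ (Submodule.subset_span (Set.mem_insert_of_mem _ rfl))
    rw [ufv_dot hf] at hb hc
    exact ⟨(f y a)⁻¹ • y, by rw [hf.smul_left, inv_mul_cancel₀ hy],
      by rw [hf.smul_left, hb, mul_zero], by rw [hf.smul_left, hc, mul_zero]⟩
  obtain ⟨ya, a1, a2, a3⟩ := hdual a b c fun r s t h => (hind r s t h).1
  obtain ⟨yb, b1, b2, b3⟩ := hdual b a c fun r s t h => (hind s r t (by rw [← h]; abel)).2.1
  obtain ⟨yc, c1, c2, c3⟩ := hdual c a b fun r s t h => (hind s t r (by rw [← h]; abel)).2.2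
  set z := x₁ • ya + x₂ • yb + x₃ • yc with hz
  let L : (ι → F) →ₗ[F] (Fin 3 → F) :=
    { toFun := fun x => ![f x a, f x b, f x c]
      map_add' := fun x y => by simp [hf.add_left]
      map_smul' := fun r x => by simp [hf.smul_left] }
  have hker : ∀ u ∈ LinearMap.ker L, f u a = 0 ∧ f u b = 0 ∧ f u c = 0 := by
    intro u hu
    have h := LinearMap.mem_ker.1 hu
    exact ⟨congrFun h 0, congrFun h 1, congrFun h 2⟩
  by_cases hall : ∀ e ∈ LinearMap.ker L, f e e = 0
  · by_cases hz0 : x₁ = 0 ∧ x₂ = 0 ∧ x₃ = 0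
    · exact ⟨0, uf_zero_left hf 0, by rw [uf_zero_left hf, hz0.1], by rw [uf_zero_left hf, hz0.2.1],
        by rw [uf_zero_left hf, hz0.2.2]⟩
    have htot : ∀ u ∈ LinearMap.ker L, ∀ w ∈ LinearMap.ker L, f u w = 0 := by
      intro u hu w hw
      have key : ∀ k : F, σ k * f u w + k * σ (f u w) = 0 := by
        intro k
        have := hall (u + k • w) (add_mem hu (Submodule.smul_mem _ k hw))
        rw [hf.add_left, uf_add_right hf, uf_add_right hf, hf.smul_left, hf.smul_left,
          uf_smul_right hf, uf_smul_right hf, hall u hu, hall w hw, hf.herm w u] at this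
        linear_combination this
      by_contra hne
      apply hf.ne_refl
      ext k
      have h1 := key 1
      rw [map_one] at h1
      have : (σ k - k) * f u w = 0 := by linear_combination key k - k * h1
      exact sub_eq_zero.1 ((mul_eq_zero.1 this).resolve_right hne)
    let S := Submodule.span F (Set.range ![ufv f a, ufv f b, ufv f c])
    have hmem : ∀ u ∈ LinearMap.ker L, ufv f u ∈ S := by
      intro u hu
      by_contra hnm
      obtain ⟨x, hx, hK⟩ := exists_dot_sep S hnm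
      have h1 := hK _ (Submodule.subset_span ⟨0, rfl⟩)
      have h2 := hK _ (Submodule.subset_span ⟨1, rfl⟩)
      have h3 := hK _ (Submodule.subset_span ⟨2, rfl⟩)
      simp only [Matrix.cons_val_zero, Matrix.cons_val_one, Matrix.cons_val, ufv_dot hf] at h1 h2 h3
      have hxL : x ∈ LinearMap.ker L := by
        rw [LinearMap.mem_ker]
        funext i
        fin_cases i <;> simp [L, h1, h2, h3]
      exact hx (by rw [ufv_dot hf, htot x hxL u hu])
    have hcard := Nat.card_le_card_of_injective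
      (fun u : LinearMap.ker L => (⟨ufv f u, hmem u u.2⟩ : S))
      fun u w h => Subtype.ext (ufv_injective hf (congrArg Subtype.val h))
    rw [Module.natCard_eq_pow_finrank (K := F), Module.natCard_eq_pow_finrank (K := F) (V := S)]
      at hcard
    have h4 := (Nat.pow_le_pow_iff_right (Finite.one_lt_card (α := F))).1 hcard
    have h5 : Module.finrank F S ≤ 3 := (finrank_range_le_card _).trans_eq (Fintype.card_fin 3)
    have h6 := L.finrank_range_add_finrank_ker
    have h7 : Module.finrank F (LinearMap.range L) ≤ 3 :=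
      (Submodule.finrank_le _).trans_eq (by rw [Module.finrank_fintype_fun_eq_card, Fintype.card_fin])
    rw [Module.finrank_fintype_fun_eq_card] at h6
    -- `ker L` is the span of `a`, `b`, `c`, so these are pairwise orthogonal
    have hsurj : Function.Surjective
        (fun u : LinearMap.ker L => (⟨ufv f u, hmem u u.2⟩ : S)) :=
      ((show Function.Injective (fun u : LinearMap.ker L => (⟨ufv f u, hmem u u.2⟩ : S)) from
        fun u w h => Subtype.ext (ufv_injective hf (congrArg Subtype.val h))).bijective_of_nat_card_le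
        (by rw [Module.natCard_eq_pow_finrank (K := F) (V := S),
              Module.natCard_eq_pow_finrank (K := F) (V := LinearMap.ker L)]
            exact Nat.pow_le_pow_right (Finite.one_lt_card (α := F)).le (by omega))).2
    have hin : ∀ i : Fin 3, ![a, b, c] i ∈ LinearMap.ker L := by
      intro i
      obtain ⟨u, hu⟩ := hsurj ⟨ufv f (![a, b, c] i), Submodule.subset_span ⟨i, by fin_cases i <;> rfl⟩⟩
      rw [← ufv_injective hf (congrArg Subtype.val hu)]
      exact u.2
    have hperp : ∀ i j : Fin 3, f (![a, b, c] i) (![a, b, c] j) = 0 := fun i j => by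
      obtain ⟨p, o, r⟩ := hker _ (hin i)
      fin_cases j <;> assumption
    obtain ⟨w, hw, hzw⟩ : ∃ i : Fin 3, ![a, b, c] i ≠ 0 ∧ f z (![a, b, c] i) ≠ 0 := by
      by_contra hcon
      push Not at hcon
      apply hz0
      have hne : ∀ i : Fin 3, ![a, b, c] i ≠ 0 := by
        intro i h0
        fin_cases i
        · exact one_ne_zero (hind 1 0 0 (by simpa using h0)).1
        · exact one_ne_zero (hind 0 1 0 (by simpa using h0)).2.1
        · exact one_ne_zero (hind 0 0 1 (by simpa using h0)).2.2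
      have va := hcon 0 (hne 0); have vb := hcon 1 (hne 1); have vc := hcon 2 (hne 2)
      simp only [Matrix.cons_val_zero, Matrix.cons_val_one, Matrix.cons_val, hz, hf.add_left,
        hf.smul_left, a1, a2, a3, b1, b2, b3, c1, c2, c3, mul_one, mul_zero, add_zero, zero_add]
        at va vb vc
      exact ⟨va, vb, vc⟩
    set v := ![a, b, c] w with hv
    have hzz : σ (f z z) = f z z := (hf.herm z z).symm
    obtain ⟨κ, hκ⟩ := exists_trace_eq (σ := (σ : F →+* F)) (sigma_ne hf) hf.involutive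
      (t := -f z z) (show σ (-f z z) = -f z z by rw [map_neg, hzz])
    change κ + σ κ = -f z z at hκ
    -- shift along `v`
    set t := σ (κ / f z v) with ht
    have htv : σ t * f z v = κ := by rw [ht, hf.involutive, div_mul_cancel₀ _ hzw]
    clear_value t
    refine ⟨z + t • v, ?_, ?_, ?_, ?_⟩
    · clear_value z
      rw [hf.add_left, uf_add_right hf, uf_add_right hf, hf.smul_left, hf.smul_left,
        uf_smul_right hf, uf_smul_right hf, hperp w w, hf.herm v z,
        show t * σ (f z v) = σ (σ t * f z v) by rw [map_mul, hf.involutive], htv]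
      linear_combination hκ
    all_goals rw [hf.add_left, hf.smul_left, hz]
    · rw [show f v a = 0 from hperp w 0]
      simp only [hf.add_left, hf.smul_left, a1, b2, c2]
      ring
    · rw [show f v b = 0 from hperp w 1]
      simp only [hf.add_left, hf.smul_left, a2, b1, c3]
      ring
    · rw [show f v c = 0 from hperp w 2]
      simp only [hf.add_left, hf.smul_left, a3, b3, c1]
      ring
  push Not at hall
  obtain ⟨e, he, hee⟩ := hall
  obtain ⟨e1, e2, e3⟩ := hker e he
  have hee' : σ (f e e) = f e e := (hf.herm e e).symm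
  set k := f z e / f e e with hk
  set z' := z + (-k) • e with hz'
  have hz'e : f z' e = 0 := by
    rw [hz', hf.add_left, hf.smul_left, hk]
    field_simp
    ring
  obtain ⟨l, hl⟩ := exists_norm_eq (σ := (σ : F →+* F)) (sigma_ne hf) hf.involutive
    (μ := -f z' z' / f e e) (by
      show σ _ = _
      rw [map_div₀, map_neg, hee', ← hf.herm])
  refine ⟨z' + l • e, ?_, ?_, ?_, ?_⟩
  · have hl' : σ l * l = -f z' z' / f e e := hl
    clear_value z'
    rw [hf.add_left, uf_add_right hf, uf_add_right hf, hf.smul_left, hf.smul_left,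
      uf_smul_right hf, uf_smul_right hf, hf.herm e z', hz'e, map_zero]
    rw [eq_div_iff hee] at hl'
    linear_combination hl'
  all_goals
    rw [hz', hz]
    simp only [hf.add_left, hf.smul_left, a1, a2, a3, b1, b2, b3, c1, c2, c3, e1, e2, e3]
    ring

theorem exists_iso_two [Finite F] (hn : 6 ≤ Fintype.card ι) (a b : ι → F)
    (hind : ∀ r s : F, r • a + s • b = 0 → r = 0 ∧ s = 0) (x₁ x₂ : F) :
    ∃ y, f y y = 0 ∧ f y a = x₁ ∧ f y b = x₂ ∧ y ≠ 0 := by
  obtain ⟨c, hc⟩ : ∃ c, c ∉ Submodule.span F (Set.range ![a, b]) := by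
    by_contra h
    push Not at h
    have h1 : Module.finrank F (Submodule.span F (Set.range ![a, b])) ≤ 2 :=
      (finrank_range_le_card _).trans_eq (Fintype.card_fin 2)
    rw [show Submodule.span F (Set.range ![a, b]) = ⊤ from eq_top_iff.2 fun x _ => h x, finrank_top,
      Module.finrank_fintype_fun_eq_card] at h1
    omega
  obtain ⟨y, h0, h1, h2, h3⟩ := exists_iso_three hf hn a b c (fun r s t h => by
    by_cases ht : t = 0
    · rw [ht, zero_smul, add_zero] at h
      exact ⟨(hind r s h).1, (hind r s h).2, ht⟩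
    · exfalso
      apply hc
      have : c = (-t⁻¹ * r) • a + (-t⁻¹ * s) • b := by
        have h' := congrArg (fun x => t⁻¹ • x) h
        simp only [smul_add, smul_smul, smul_zero, inv_mul_cancel₀ ht, one_smul] at h'
        rw [neg_mul, neg_mul, neg_smul, neg_smul, ← neg_add, eq_neg_iff_add_eq_zero, ← h']
        abel
      rw [this]
      exact add_mem (Submodule.smul_mem _ _ (Submodule.subset_span ⟨0, rfl⟩))
        (Submodule.smul_mem _ _ (Submodule.subset_span ⟨1, rfl⟩))) x₁ x₂ 1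
  exact ⟨y, h0, h1, h2, fun hy => by rw [hy, uf_zero_left hf] at h3; exact zero_ne_one h3⟩

theorem exists_iso_one [Finite F] (hn : 6 ≤ Fintype.card ι) {a : ι → F} (ha : a ≠ 0) (x : F) :
    ∃ y, f y y = 0 ∧ f y a = x := by
  obtain ⟨b, hb⟩ : ∃ b, b ∉ Submodule.span F (Set.range ![a]) := by
    by_contra h
    push Not at h
    have h1 : Module.finrank F (Submodule.span F (Set.range ![a])) ≤ 1 :=
      (finrank_range_le_card _).trans_eq (Fintype.card_fin 1)
    rw [show Submodule.span F (Set.range ![a]) = ⊤ from eq_top_iff.2 fun x _ => h x, finrank_top,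
      Module.finrank_fintype_fun_eq_card] at h1
    omega
  obtain ⟨y, h0, h1, -, -⟩ := exists_iso_two hf hn a b (fun r s h => by
    by_cases hs : s = 0
    · rw [hs, zero_smul, add_zero, smul_eq_zero] at h
      exact ⟨h.resolve_right ha, hs⟩
    · exfalso
      apply hb
      have : b = (-s⁻¹ * r) • a := by
        have h' := congrArg (fun x => s⁻¹ • x) h
        simp only [smul_add, smul_smul, smul_zero, inv_mul_cancel₀ hs, one_smul] at h'
        rw [neg_mul, neg_smul, eq_neg_iff_add_eq_zero, ← h']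
        abel
      rw [this]
      exact Submodule.smul_mem _ _ (Submodule.subset_span ⟨0, rfl⟩)) x 0
  exact ⟨y, h0, h1⟩

end basics

open H38.SubSU
open H38 (ufv exists_dot_sep uf_add_right uf_smul_right uf_zero_left uf_zero_right ufv_dot ufv_add
  ufv_smul ufv_injective ufv_surjective sigma_ne exists_iso_extend subfield_eq_top_of_lt loSL coe_loSL loSL_zero loSL_mul
  proj_map_eq_top_of_nd)
open H51.StabMax (IsCtr suHom suHom_mem suHom_val exists_suHom_eq)
open Cfsg.Agent.S5658 (rt_emb exists_emb hasRat)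

section Setting

variable {F : Type*} [Field F] [Fintype F] {n q : ℕ}

local notation "V" => (Fin n → F)
local notation "hh" => Cfsg.hermForm n F q

variable {F₀ : Subfield F} {P : GL (Fin n) F} (D : Setting n q F₀ P)
include D

theorem exists_rel_iso₀ {e u : Fin n → F₀} (hn : 6 ≤ n) (he : f₀ D e e = 0) (he0 : e ≠ 0)
    (hu : f₀ D u e = 0) :
    u ∈ Submodule.span F₀ {x : Fin n → F₀ | f₀ D x x = 0 ∧ f₀ D x e = 0} := by
  by_contra hnm
  obtain ⟨ψ, hψ, hK⟩ := exists_dot_sep _ hnm
  obtain ⟨y, hy⟩ := ufv_surjective (unitary₀ D) ψ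
  have hind : ∀ r s : F₀, r • e + s • y = 0 → r = 0 ∧ s = 0 := by
    intro r s hrs
    by_cases hs : s = 0
    · rw [hs, zero_smul, add_zero, smul_eq_zero] at hrs
      exact ⟨hrs.resolve_right he0, hs⟩
    · exfalso
      apply hψ
      have h0 : f₀ D u (r • e + s • y) = 0 := by rw [hrs, uf_zero_right (unitary₀ D)]
      rw [uf_add_right (unitary₀ D), uf_smul_right (unitary₀ D), uf_smul_right (unitary₀ D), hu,
        mul_zero, zero_add, mul_eq_zero, map_eq_zero] at h0
      rw [dotProduct_comm, ← hy, ufv_dot (unitary₀ D)]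
      exact h0.resolve_left hs
  obtain ⟨x, hxi, hxe, hxy, -⟩ :=
    exists_iso_two (unitary₀ D) (by rw [Fintype.card_fin]; exact hn) e y hind 0 1
  have := hK x (Submodule.subset_span ⟨hxi, hxe⟩)
  rw [dotProduct_comm, ← hy, ufv_dot (unitary₀ D), hxy] at this
  exact one_ne_zero this

theorem mem_span_iso {e u : Fin n → F₀} (hn : 6 ≤ n) (he : RIso D e) (he0 : e ≠ 0)
    (hu : hh (emb P u) (emb P e) = 0) (N : Submodule F V)
    (hN : ∀ x : Fin n → F₀, RIso D x → hh (emb P x) (emb P e) = 0 → emb P x ∈ N) :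
    emb P u ∈ N := by
  let N₀ : Submodule F₀ (Fin n → F₀) :=
    { carrier := {x | emb P x ∈ N}
      zero_mem' := by show emb P 0 ∈ N; rw [emb_zero]; exact N.zero_mem
      add_mem' := fun {a b} ha hb => by show emb P (a + b) ∈ N; rw [emb_add]; exact N.add_mem ha hb
      smul_mem' := fun c a ha => by show emb P (c • a) ∈ N; rw [emb_smul]; exact N.smul_mem _ ha }
  have := exists_rel_iso₀ D hn (Subtype.ext he) he0 (Subtype.ext hu)
  refine (Submodule.span_le (p := N₀)).2 ?_ this
  rintro x ⟨hx, hxe⟩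
  exact hN x (congrArg Subtype.val hx) (congrArg Subtype.val hxe)

theorem eq_top_of_rat_ctr (hn : 6 ≤ n) (K : Subgroup (SU n F q))
    (h : ∀ u : Fin n → F₀, RIso D u → IsCtr K (emb P u)) : K = ⊤ := by
  have hF := D.hF
  refine H51.StabMax.eq_top_of_ctr hF (by omega) K fun z hz => ?_
  by_cases hz0 : z = 0
  · rw [hz0]; exact H51.StabMax.ctr_zero K
  -- a rational isotropic vector not orthogonal to z
  obtain ⟨e, he, hez⟩ : ∃ e, RIso D e ∧ hh z (emb P e) ≠ 0 := by
    by_contra hc
    push Not at hc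
    apply hz0
    refine eq_zero_of_rat D fun u => ?_
    let N₀ : Submodule F₀ (Fin n → F₀) :=
      { carrier := {x | hh z (emb P x) = 0}
        zero_mem' := by show hh z (emb P 0) = 0; rw [emb_zero, h_zero_right hF]
        add_mem' := fun {a b} ha hb => by
          show hh z (emb P (a + b)) = 0
          rw [emb_add, h_add_right hF, ha, hb, add_zero]
        smul_mem' := fun c a ha => by
          show hh z (emb P (c • a)) = 0
          rw [emb_smul, h_smul_right hF, ha, mul_zero] }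
    refine (h_eq_zero_comm hF).1 (show u ∈ N₀ from ?_)
    by_contra hnm
    obtain ⟨ψ, hψ, hK⟩ := exists_dot_sep _ hnm
    obtain ⟨y, hy⟩ := ufv_surjective (unitary₀ D) ψ
    have hy0 : y ≠ 0 := fun h0 => hψ (by
      rw [dotProduct_comm, ← hy, ufv_dot (unitary₀ D), h0, uf_zero_right (unitary₀ D)])
    obtain ⟨x, hx, hxy⟩ := exists_iso_one (unitary₀ D) (by rw [Fintype.card_fin]; exact hn) hy0 1
    have := hK x (hc x (congrArg Subtype.val hx))
    rw [dotProduct_comm, ← hy, ufv_dot (unitary₀ D), hxy] at this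
    exact one_ne_zero this
  have he0 : e ≠ 0 := fun h0 => hez (by rw [h0, emb_zero, h_zero_right hF])
  obtain ⟨f', hfi, hfe⟩ :=
    exists_iso_one (unitary₀ D) (by rw [Fintype.card_fin]; exact hn) he0 1
  have hE : hh (emb P f') (emb P e) = 1 := congrArg Subtype.val hfe
  have hE' : hh (emb P e) (emb P f') = 1 := by rw [h_symm hF (emb P f'), hE, one_pow]
  have hff : hh (emb P f') (emb P f') = 0 := congrArg Subtype.val hfi
  have hee : hh (emb P e) (emb P e) = 0 := he
  set E := emb P e with hEdef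
  set G := emb P f' with hGdef
  -- centres on the hyperbolic line
  have hline : ∀ (β : F) (a : F), hh (β • G + a • E) (β • G + a • E) = 0 →
      IsCtr K (β • G + a • E) := by
    intro β a hiso
    by_cases hβ : β = 0
    · rw [hβ, zero_smul, zero_add]
      exact H51.StabMax.ctr_smul hF (h e he) a
    have hanti : a / β + (a / β) ^ q = 0 := by
      rw [h_add_left, h_add_right hF, h_add_right hF, h_smul_left, h_smul_left, h_smul_right hF,
        h_smul_right hF, hff, h_smul_left, h_smul_left, h_smul_right hF, h_smul_right hF, hee, hE,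
        hE'] at hiso
      have hβq : β ^ q ≠ 0 := pow_ne_zero _ hβ
      rw [div_pow]
      field_simp
      linear_combination hiso
    have h1 := H51.StabMax.ctr_step hF (h f' hff) (h e he) hanti
    rw [hE, mul_one] at h1
    have h2 := H51.StabMax.ctr_smul hF h1 β
    rwa [smul_add, smul_smul, mul_div_cancel₀ _ hβ] at h2
  -- shifting along rational isotropic vectors orthogonal to `e`
  let N : Submodule F V :=
    { carrier := {u | hh u E = 0 ∧ ∀ y : V, IsCtr K y → hh y E ≠ 0 →
        ∀ k : F, ∃ a : F, IsCtr K (y + k • u + a • E)}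
      zero_mem' := ⟨h_zero_left _, fun y hy _ k =>
        ⟨0, by rw [smul_zero, zero_smul, add_zero, add_zero]; exact hy⟩⟩
      add_mem' := fun {u w} hu hw => by
        refine ⟨by rw [h_add_left, hu.1, hw.1, add_zero], fun y hy hye k => ?_⟩
        obtain ⟨a, ha⟩ := hu.2 y hy hye k
        have hye' : hh (y + k • u + a • E) E ≠ 0 := by
          rw [h_add_left, h_add_left, h_smul_left, h_smul_left, hu.1, hee, mul_zero, mul_zero,
            add_zero, add_zero]
          exact hye
        obtain ⟨b, hb⟩ := hw.2 _ ha hye' k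
        refine ⟨a + b, ?_⟩
        have e' : y + k • (u + w) + (a + b) • E = y + k • u + a • E + k • w + b • E := by
          rw [smul_add, add_smul]; abel
        rwa [e']
      smul_mem' := fun c u hu => by
        refine ⟨by rw [h_smul_left, hu.1, mul_zero], fun y hy hye k => ?_⟩
        obtain ⟨a, ha⟩ := hu.2 y hy hye (k * c)
        exact ⟨a, by rwa [smul_smul]⟩ }
  have hgen : ∀ x : Fin n → F₀, RIso D x → hh (emb P x) E = 0 → emb P x ∈ N := by
    intro x hx hxe
    refine ⟨hxe, fun y hy hye k => ?_⟩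
    set X := emb P x with hX
    have hxx : hh X X = 0 := hx
    have hex : hh E X = 0 := (h_eq_zero_comm hF).1 hxe
    -- one value of the scalar
    have one : ∀ (κ : F₀) (c : F), c + c ^ q = 0 → ∀ y : V, IsCtr K y →
        ∃ a : F, IsCtr K (y + (c * (κ : F) ^ q * hh y E) • X + a • E) := by
      intro κ c hc y hy
      have hmix : RIso D (x + κ • e) := by
        show hh (emb P (x + κ • e)) (emb P (x + κ • e)) = 0
        rw [emb_add, emb_smul, h_add_left, h_add_right hF, h_add_right hF, h_smul_left,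
          h_smul_right hF, h_smul_right hF, h_smul_left, ← hX, ← hEdef, hxx, hxe, hex, hee]
        ring
      have h1 := H51.StabMax.ctr_step hF hy (h _ hmix) hc
      have hc' : -c + (-c) ^ q = 0 := by rw [neg_pow_q hF]; linear_combination -hc
      have h2 := H51.StabMax.ctr_step hF h1 (h x hx) hc'
      rw [emb_add, emb_smul, ← hX, ← hEdef] at h2
      rw [h_add_right hF, h_smul_right hF, h_add_left, h_smul_left, h_add_left, h_smul_left, hxx,
        hex, mul_zero, add_zero, mul_zero, add_zero] at h2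
      refine ⟨c * (hh y X + (κ : F) ^ q * hh y E) * κ, ?_⟩
      have e' : y + (c * (κ : F) ^ q * hh y E) • X +
          (c * (hh y X + (κ : F) ^ q * hh y E) * κ) • E =
          y + (c * (hh y X + (κ : F) ^ q * hh y E)) • (X + (κ : F) • E) +
            (-c * hh y X) • X := by
        rw [smul_add, smul_smul]
        module
      rwa [e']
    obtain ⟨κ, hκ⟩ := exists_moved D
    set m := (κ : F) ^ q with hm
    have hm' : m ^ q - m ≠ 0 := by
      rw [hm, pow_q_pow_q hF]
      exact sub_ne_zero.2 (Ne.symm hκ)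
    obtain ⟨c₁, c₂, hc₁, hc₂, hsum⟩ : ∃ c₁ c₂ : F, c₁ + c₁ ^ q = 0 ∧ c₂ + c₂ ^ q = 0 ∧
        c₁ + c₂ * m = k / hh y E := by
      obtain ⟨l, hl⟩ : ∃ l, l = k / hh y E := ⟨_, rfl⟩
      rw [← hl]
      set c₂ := -(l + l ^ q) / (m ^ q - m) with hc₂def
      have hc₂ : c₂ + c₂ ^ q = 0 := by
        have e1 : (m ^ q - m) ^ q = -(m ^ q - m) := by
          rw [sub_pow_q hF, pow_q_pow_q hF, neg_sub]
        have e2 : (-(l + l ^ q)) ^ q = -(l + l ^ q) := by rw [neg_pow_q hF, trace_fixed hF]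
        rw [hc₂def, div_pow, e1, e2, div_neg, add_neg_cancel]
      refine ⟨l - c₂ * m, c₂, ?_, hc₂, by ring⟩
      have e : c₂ * (m ^ q - m) = -(l + l ^ q) := div_mul_cancel₀ _ hm'
      rw [sub_pow_q hF, mul_pow]
      linear_combination (-(m ^ q)) * hc₂ + e
    obtain ⟨a₁, h1⟩ := one 1 c₁ hc₁ y hy
    obtain ⟨a₂, h2⟩ := one κ c₂ hc₂ _ h1
    refine ⟨a₁ + a₂, ?_⟩
    rw [OneMemClass.coe_one, one_pow, mul_one] at h2
    rw [h_add_left, h_add_left, h_smul_left, h_smul_left, hxe, hee, mul_zero, add_zero, mul_zero,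
      add_zero, ← hm] at h2
    have e' : y + k • X + (a₁ + a₂) • E =
        y + (c₁ * hh y E) • X + a₁ • E + (c₂ * m * hh y E) • X + a₂ • E := by
      have : k = c₁ * hh y E + c₂ * m * hh y E := by
        rw [← add_mul, hsum, div_mul_cancel₀ _ hye]
      rw [this, add_smul, add_smul]
      abel
    rwa [e']
  have hall : ∀ u : V, hh u E = 0 → u ∈ N := by
    intro u hu
    set c := fun i => (((P⁻¹ : GL (Fin n) F) : Matrix (Fin n) (Fin n) F) *ᵥ u) i
    have hsum := emb_sum (F₀ := F₀) (P := P) u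
    let k : Fin n → F₀ := fun i => f₀ D (Pi.single i 1) e
    have hperp : ∀ i, hh (emb P (Pi.single i 1 - k i • f')) (emb P e) = 0 := by
      intro i
      rw [sub_eq_add_neg, emb_add, ← neg_smul, emb_smul, h_add_left, h_smul_left, hE,
        NegMemClass.coe_neg, mul_one]
      exact add_neg_cancel _
    have hdec : u = ∑ i, c i • emb P (Pi.single i 1 - k i • f') + (∑ i, c i * (k i : F)) • G := by
      conv_lhs => rw [← hsum]
      rw [Finset.sum_smul, ← Finset.sum_add_distrib]
      refine Finset.sum_congr rfl fun i _ => ?_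
      rw [sub_eq_add_neg, emb_add, ← neg_smul, emb_smul, NegMemClass.coe_neg, smul_add, smul_smul,
        mul_neg, neg_smul, add_assoc, neg_add_cancel, add_zero]
    have hin : ∑ i, c i • emb P (Pi.single i 1 - k i • f') ∈ N :=
      Submodule.sum_mem _ fun i _ => N.smul_mem _ (mem_span_iso D hn he he0 (hperp i) N hgen)
    have hzero : (∑ i, c i * (k i : F)) = 0 := by
      have h1 := hu
      rw [hdec, h_add_left, hin.1, zero_add, h_smul_left, hE, mul_one] at h1
      exact h1
    rw [hdec, hzero, zero_smul, add_zero]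
    exact hin
  -- the given vector
  set β := hh z E with hβ
  obtain ⟨a, ha⟩ : ∃ a : F, hh (β • G + a • E) (β • G + a • E) = 0 :=
    ⟨0, by rw [zero_smul, add_zero, h_smul_left, h_smul_right hF, hff, mul_zero, mul_zero]⟩
  have hu : hh (z - β • G) E = 0 := by
    rw [h_sub_left, h_smul_left, hE, mul_one, ← hβ, sub_self]
  have hye : hh (β • G + a • E) E ≠ 0 := by
    rw [h_add_left, h_smul_left, h_smul_left, hE, hee, mul_one, mul_zero, add_zero]
    exact hez
  obtain ⟨b, hb⟩ := (hall _ hu).2 _ (hline β a ha) hye 1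
  rw [one_smul, show β • G + a • E + (z - β • G) + b • E = z + (a + b) • E by
    rw [add_smul]; abel] at hb
  -- remove the multiple of `e`
  set w := z + (a + b) • E with hw
  have hwe : hh w E = β := by rw [hw, h_add_left, h_smul_left, hee, mul_zero, add_zero]
  have hanti : -(a + b) / β + (-(a + b) / β) ^ q = 0 := by
    have h1 := hb.1
    rw [hw, h_add_left, h_add_right hF, h_add_right hF, h_smul_left, h_smul_left, h_smul_right hF,
      h_smul_right hF, hz, hee, h_symm hF z E, ← hβ] at h1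
    have hβq : β ^ q ≠ 0 := pow_ne_zero _ hez
    rw [div_pow, neg_pow_q hF]
    field_simp
    linear_combination -h1
  have := H51.StabMax.ctr_step hF hb (h e he) hanti
  rwa [hwe, div_mul_cancel₀ _ hez, hw, ← hEdef, neg_smul, add_neg_cancel_right] at this

theorem exists_good_of_orth (hn : 6 ≤ n) {K : Subgroup (SU n F q)} (hK : HasRat D K) {z : V}
    {c : F} (h : Mem K z c) (hc0 : c ≠ 0) (hc : c + c ^ q = 0) (hcF : c ∈ F₀) (hz : hh z z = 0)
    (hpt : ∀ (l : F) (u : Fin n → F₀), z ≠ l • emb P u) {v : Fin n → F₀} (hv : RIso D v)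
    (hv0 : v ≠ 0) (hzv : hh z (emb P v) = 0) : GoodScalar D K := by
  by_contra hno
  have hF := D.hF
  have hve : f₀ D v v = 0 := Subtype.ext hv
  have hiso : ∀ {x : Fin n → F₀}, f₀ D x x = 0 → RIso D x := fun hx => congrArg Subtype.val hx
  have horth : ∀ {x : Fin n → F₀}, f₀ D x v = 0 → hh (emb P v) (emb P x) = 0 := fun hx =>
    (h_eq_zero_comm hF).1 (congrArg Subtype.val hx)
  -- products of values on the rational orthogonal complement of v
  have hprod : ∀ x x' : Fin n → F₀, f₀ D x v = 0 → f₀ D x' v = 0 →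
      hh z (emb P x) * hh z (emb P x') ^ q ∈ F₀ := by
    intro x x' hx hx'
    let N₁ : (Fin n → F₀) → Submodule F₀ (Fin n → F₀) := fun b =>
      { carrier := {a | hh z (emb P a) * hh z (emb P b) ^ q ∈ F₀}
        zero_mem' := by
          show hh z (emb P 0) * _ ∈ F₀
          rw [emb_zero, h_zero_right hF, zero_mul]
          exact F₀.zero_mem
        add_mem' := fun {a a'} ha ha' => by
          show hh z (emb P (a + a')) * _ ∈ F₀
          rw [emb_add, h_add_right hF, add_mul]
          exact add_mem ha ha'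
        smul_mem' := fun k a ha => by
          show hh z (emb P (k • a)) * _ ∈ F₀
          rw [emb_smul, h_smul_right hF, mul_assoc]
          exact mul_mem (pow_mem' D k.2) ha }
    let N₂ : (Fin n → F₀) → Submodule F₀ (Fin n → F₀) := fun a =>
      { carrier := {b | hh z (emb P a) * hh z (emb P b) ^ q ∈ F₀}
        zero_mem' := by
          show _ * hh z (emb P 0) ^ q ∈ F₀
          rw [emb_zero, h_zero_right hF, zero_pow (q_ne_zero hF), mul_zero]
          exact F₀.zero_mem
        add_mem' := fun {b b'} hb hb' => by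
          show _ * hh z (emb P (b + b')) ^ q ∈ F₀
          rw [emb_add, h_add_right hF, add_pow_q hF, mul_add]
          exact add_mem hb hb'
        smul_mem' := fun k b hb => by
          show _ * hh z (emb P (k • b)) ^ q ∈ F₀
          rw [emb_smul, h_smul_right hF, mul_pow, pow_q_pow_q hF, mul_left_comm]
          exact mul_mem k.2 hb }
    have s1 : ∀ b, f₀ D b b = 0 → f₀ D b v = 0 → x ∈ N₁ b := fun b hb hbv =>
      (Submodule.span_le (p := N₁ b)).2 (fun a ha => cross_rat D hK h hc0 hc hcF hz hv hv0 hzv hno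
        (hiso ha.1) (hiso hb) (horth ha.2) (horth hbv)) (exists_rel_iso₀ D hn hve hv0 hx)
    exact (Submodule.span_le (p := N₂ x)).2 (fun b hb => s1 b hb.1 hb.2)
      (exists_rel_iso₀ D hn hve hv0 hx')
  -- a vector with value 1 against v
  obtain ⟨g, hgi, hgv⟩ := exists_iso_one (unitary₀ D) (by rw [Fintype.card_fin]; exact hn) hv0 1
  have hgv' : hh (emb P g) (emb P v) = 1 := congrArg Subtype.val hgv
  have hvg : hh (emb P v) (emb P g) = 1 := by rw [h_symm hF (emb P g), hgv', one_pow]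
  have hdecomp : ∀ u : Fin n → F₀, f₀ D (u - f₀ D u v • g) v = 0 := fun u => by
    rw [sub_eq_add_neg, (unitary₀ D).add_left, ← neg_smul, (unitary₀ D).smul_left, hgv, mul_one,
      add_neg_cancel]
  obtain ⟨x₁, hx₁, hl0⟩ : ∃ x, f₀ D x v = 0 ∧ hh z (emb P x) ≠ 0 := by
    by_contra hc'
    push Not at hc'
    refine hpt (hh z (emb P g)) v ?_
    rw [← sub_eq_zero]
    refine eq_zero_of_rat D fun u => ?_
    have h1 := hc' _ (hdecomp u)
    rw [sub_eq_add_neg, emb_add, ← neg_smul, emb_smul, h_add_right hF, h_smul_right hF,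
      NegMemClass.coe_neg, neg_pow_q hF, f₀_val, ← h_symm hF (emb P u) (emb P v)] at h1
    rw [h_sub_right hF, h_smul_right hF, h_symm hF z (emb P u), h_symm hF (emb P v) (emb P u),
      ← mul_pow, ← sub_pow_q hF, pow_q_eq_zero hF]
    linear_combination h1
  set l := hh z (emb P x₁) with hl
  have hNl : l * l ^ q ∈ F₀ := hprod x₁ x₁ hx₁ hx₁
  set z' := l⁻¹ • z with hz'
  have hz'i : hh z' z' = 0 := by rw [hz', h_smul_left, h_smul_right hF, hz, mul_zero, mul_zero]
  have hz'v : hh z' (emb P v) = 0 := by rw [hz', h_smul_left, hzv, mul_zero]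
  have hlq : l⁻¹ * l⁻¹ ^ q ≠ 0 := mul_ne_zero (inv_ne_zero hl0) (pow_ne_zero _ (inv_ne_zero hl0))
  have hinv : l⁻¹ * l⁻¹ ^ q ∈ F₀ := by rw [inv_pow, ← mul_inv]; exact F₀.inv_mem hNl
  set c' := c / (l⁻¹ * l⁻¹ ^ q) with hc'def
  have hm' : Mem K z' c' := mem_smul D h (inv_ne_zero hl0)
  have hc'0 : c' ≠ 0 := div_ne_zero hc0 hlq
  have hc' : c' + c' ^ q = 0 := by
    have e : (l⁻¹ * l⁻¹ ^ q) ^ q = l⁻¹ * l⁻¹ ^ q := by rw [mul_pow, pow_q_pow_q hF, mul_comm]
    rw [hc'def, div_pow, e, ← add_div, hc, zero_div]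
  have hc'F : c' ∈ F₀ := div_mem hcF hinv
  have hval : ∀ x, f₀ D x v = 0 → hh z' (emb P x) ∈ F₀ := by
    intro x hx
    have e : hh z' (emb P x) = (hh z (emb P x) * l ^ q) / (l * l ^ q) := by
      rw [hz', h_smul_left, mul_div_mul_right _ _ (pow_ne_zero _ hl0), inv_mul_eq_div]
    rw [e]
    exact div_mem (hprod x x₁ hx hx₁) hNl
  set k := hh z' (emb P g) with hk
  have hzl : z = l • z' := by rw [hz', smul_smul, mul_inv_cancel₀ hl0, one_smul]
  clear_value z'
  have hvals : ∀ u : Fin n → F₀, hh (emb P u) (z' - k • emb P v) ∈ F₀ := by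
    intro u
    have h1 := hval _ (hdecomp u)
    rw [sub_eq_add_neg, emb_add, ← neg_smul, emb_smul, h_add_right hF, h_smul_right hF,
      NegMemClass.coe_neg, neg_pow_q hF, f₀_val, ← h_symm hF (emb P u) (emb P v), ← hk] at h1
    rw [h_sub_right hF, h_smul_right hF, h_symm hF z' (emb P u), h_symm hF (emb P v) (emb P u),
      ← mul_pow, ← sub_pow_q hF]
    refine pow_mem' D ?_
    convert h1 using 1
    ring
  obtain ⟨a, ha⟩ := ufv_surjective (unitary₀ D)
    (fun i => (⟨_, hvals (Pi.single i 1)⟩ : F₀))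
  have hza : z' = emb P a + k • emb P v := by
    have h0 : z' - k • emb P v - emb P a = 0 := by
      refine eq_zero_of_rat D fun u => ?_
      have e1 : u = ∑ i, u i • Pi.single i (1 : F₀) := by
        conv_lhs => rw [pi_eq_sum_univ' u]
      have e2 : ∀ i, hh (emb P (Pi.single i (1 : F₀))) (z' - k • emb P v - emb P a) = 0 := fun i => by
        have := congrArg Subtype.val (congrFun ha i)
        rw [h_sub_right hF, sub_eq_zero]
        exact this.symm
      rw [e1]
      clear e1
      induction (Finset.univ : Finset (Fin n)) using Finset.induction_on with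
      | empty => rw [Finset.sum_empty, emb_zero, h_zero_left]
      | insert j s hj ih =>
        rw [Finset.sum_insert hj, emb_add, emb_smul, h_add_left, h_smul_left, e2, ih, mul_zero,
          add_zero]
    rw [← sub_eq_zero, ← h0]
    abel
  have hvv : hh (emb P v) (emb P v) = 0 := hv
  have hav : hh (emb P a) (emb P v) = 0 := by
    rwa [hza, h_add_left, h_smul_left, hvv, mul_zero, add_zero] at hz'v
  have haa : hh (emb P a) (emb P a) = 0 := by
    rw [hza, h_add_left, h_add_right hF, h_add_right hF, h_smul_left, h_smul_right hF,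
      h_smul_right hF, h_smul_left, hav, (h_eq_zero_comm hF).1 hav, hvv] at hz'i
    simpa using hz'i
  have hk0 : k ∉ F₀ := fun hkF => hpt l (a + (⟨k, hkF⟩ : F₀) • v) (by
    rw [emb_add, emb_smul, hzl, hza])
  have hind : ∀ r s : F₀, r • a + s • v = 0 → r = 0 ∧ s = 0 := by
    intro r s hrs
    by_cases hr : r = 0
    · rw [hr, zero_smul, zero_add, smul_eq_zero] at hrs
      exact ⟨hr, hrs.resolve_right hv0⟩
    · exfalso
      have e : a = (-r⁻¹ * s) • v := by
        have h' := congrArg (fun x => r⁻¹ • x) hrs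
        simp only [smul_add, smul_smul, smul_zero, inv_mul_cancel₀ hr, one_smul] at h'
        rw [neg_mul, neg_smul, eq_neg_iff_add_eq_zero, h']
      exact hpt (l * (((-r⁻¹ * s : F₀) : F) + k)) v (by
        rw [hzl, hza, e, emb_smul, ← add_smul, smul_smul])
  let W := Submodule.span F₀ (Set.range ![a, v])
  have hWmem : a ∈ W ∧ v ∈ W := ⟨Submodule.subset_span ⟨0, rfl⟩, Submodule.subset_span ⟨1, rfl⟩⟩
  have hWiso : ∀ x ∈ W, ∀ y ∈ W, f₀ D x y = 0 := by
    have hgen : ∀ i j, f₀ D (![a, v] i) (![a, v] j) = 0 := by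
      intro i j
      apply Subtype.ext
      rw [f₀_val]
      fin_cases i <;> fin_cases j <;> first | exact haa | exact hav | exact (h_eq_zero_comm hF).1 hav | exact hv
    intro x hx y hy
    induction hx using Submodule.span_induction with
    | mem x hx =>
      obtain ⟨i, rfl⟩ := hx
      induction hy using Submodule.span_induction with
      | mem y hy => obtain ⟨j, rfl⟩ := hy; exact hgen i j
      | zero => exact uf_zero_right (unitary₀ D) _
      | add y y' _ _ h1 h2 => rw [uf_add_right (unitary₀ D), h1, h2, add_zero]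
      | smul r y _ h1 => rw [uf_smul_right (unitary₀ D), h1, mul_zero]
    | zero => exact uf_zero_left (unitary₀ D) _
    | add x x' _ _ h1 h2 => rw [(unitary₀ D).add_left, h1, h2, add_zero]
    | smul r x _ h1 => rw [(unitary₀ D).smul_left, h1, mul_zero]
  obtain ⟨v', hv'i, hv'W, hv'n⟩ := exists_iso_extend (unitary₀ D) W hWiso (by
    have := (finrank_range_le_card (R := F₀) ![a, v]).trans_eq (Fintype.card_fin 2)
    rw [Fintype.card_fin]
    change 2 * Module.finrank F₀ W + 2 ≤ n
    change Module.finrank F₀ W ≤ 2 at this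
    omega)
  have hv'a : hh (emb P v') (emb P a) = 0 := congrArg Subtype.val (hv'W a hWmem.1)
  have hv'v : hh (emb P v') (emb P v) = 0 := congrArg Subtype.val (hv'W v hWmem.2)
  have hv'0 : v' ≠ 0 := fun h0 => hv'n (h0 ▸ W.zero_mem)
  have hind3 : ∀ r s t : F₀, r • v' + s • a + t • v = 0 → r = 0 ∧ s = 0 ∧ t = 0 := by
    intro r s t h3
    by_cases hr : r = 0
    · rw [hr, zero_smul, zero_add] at h3
      exact ⟨hr, hind s t h3⟩
    · exfalso
      apply hv'n
      have e : v' = (-r⁻¹) • (s • a + t • v) := by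
        have h' := congrArg (fun x => r⁻¹ • x) h3
        simp only [smul_add, smul_smul, smul_zero, inv_mul_cancel₀ hr, one_smul] at h'
        rw [neg_smul, eq_neg_iff_add_eq_zero, smul_add, smul_smul, smul_smul, ← add_assoc, h']
      rw [e]
      exact W.smul_mem _ (W.add_mem (W.smul_mem _ hWmem.1) (W.smul_mem _ hWmem.2))
  have h7 : 6 ≤ Fintype.card (Fin n) := by rw [Fintype.card_fin]; exact hn
  obtain ⟨y, hyi, hyv', hya, hyv⟩ := exists_iso_three (unitary₀ D) h7 v' a v hind3 0 1 0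
  obtain ⟨y', hy'i, hy'v', hy'a, hy'v⟩ := exists_iso_three (unitary₀ D) h7 v' a v hind3 0 0 1
  have hz'v' : hh z' (emb P v') = 0 := by
    rw [hza, h_add_left, h_smul_left, (h_eq_zero_comm hF).1 hv'a, (h_eq_zero_comm hF).1 hv'v,
      mul_zero, add_zero]
  have hv'riso : RIso D v' := hiso hv'i
  have := cross_rat D hK hm' hc'0 hc' hc'F hz'i hv'riso hv'0 hz'v' hno (hiso hyi) (hiso hy'i)
    ((h_eq_zero_comm hF).1 (congrArg Subtype.val hyv'))
    ((h_eq_zero_comm hF).1 (congrArg Subtype.val hy'v'))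
  have e1 : hh (emb P a) (emb P y) = 1 := by
    rw [h_symm hF (emb P y), show hh (emb P y) (emb P a) = 1 from congrArg Subtype.val hya, one_pow]
  have e2 : hh (emb P v) (emb P y) = 0 := (h_eq_zero_comm hF).1 (congrArg Subtype.val hyv)
  have e3 : hh (emb P a) (emb P y') = 0 := (h_eq_zero_comm hF).1 (congrArg Subtype.val hy'a)
  have e4 : hh (emb P v) (emb P y') = 1 := by
    rw [h_symm hF (emb P y'), show hh (emb P y') (emb P v) = 1 from congrArg Subtype.val hy'v, one_pow]
  rw [hza, h_add_left, h_smul_left, h_add_left, h_smul_left, e1, e2, e3, e4, mul_zero, add_zero,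
    one_mul, mul_one, zero_add] at this
  apply hk0
  have := pow_mem' D this
  rwa [pow_q_pow_q hF] at this

theorem mem_transfer_orth (hn : 6 ≤ n) {K : Subgroup (SU n F q)} (hK : HasRat D K)
    {u v : Fin n → F₀} (hu : RIso D u) (hv : RIso D v)
    (hind : ∀ r s : F₀, r • u + s • v = 0 → r = 0 ∧ s = 0)
    (huv : hh (emb P u) (emb P v) = 0) {c d d' : F} (hc : c + c ^ q = 0)
    (h : Mem K (emb P u) c) (hd : d + d ^ q = 0) (hd' : d' + d' ^ q = 0)
    (hmd : ∀ x, RIso D x → Mem K (emb P x) d) (hmd' : ∀ x, RIso D x → Mem K (emb P x) d')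
    (t : F₀) (ht : (t : F) ^ q = t) : Mem K (emb P v) (-(c * d * d' * t)) := by
  have hF := D.hF
  obtain ⟨y, hyi, hyv, hyu, -⟩ := exists_iso_two (unitary₀ D) (by rw [Fintype.card_fin]; exact hn)
    v u (fun r s h => ⟨(hind s r (by rw [← h]; abel)).2, (hind s r (by rw [← h]; abel)).1⟩) 0 1
  have hy : RIso D y := congrArg Subtype.val hyi
  have hvy : hh (emb P v) (emb P y) = 0 := (h_eq_zero_comm hF).1 (congrArg Subtype.val hyv)
  have huy : hh (emb P u) (emb P y) = 1 := by
    rw [h_symm hF (emb P y), show hh (emb P y) (emb P u) = 1 from congrArg Subtype.val hyu, one_pow]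
  obtain ⟨κ, hκ⟩ := exists_trace₀ D (t := t) ht
  have hκy := riso_smul D hy κ
  have hvκy : hh (emb P v) (emb P (κ • y)) = 0 := by
    rw [emb_smul, h_smul_right hF, hvy, mul_zero]
  have hm := mem_cross D h hc hu huv hv hy hvy hκy hvκy hd hd'
    (by rw [← emb_add]; exact hmd _ (riso_add D hv hy hvy)) (hmd _ hy)
    (by rw [← emb_add]; exact hmd' _ (riso_add D hv hκy hvκy)) (hmd' _ hκy)
  rw [emb_smul, h_smul_right hF, huy, mul_one, mul_one, mul_pow, pow_q_pow_q hF,
    eq_neg_of_add_eq_zero_right hd, eq_neg_of_add_eq_zero_right hd'] at hm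
  convert hm using 1
  rw [← hκ]
  ring

theorem eq_top_of_good (hn : 6 ≤ n) {K : Subgroup (SU n F q)} (hK : HasRat D K)
    (hg : GoodScalar D K) : K = ⊤ := by
  have hF := D.hF
  obtain ⟨u, hu0, hu, e, he, heF, hue⟩ := hg
  obtain ⟨c₀, hc₀0, hc₀⟩ := exists_anti₀ D
  have hc₀0' : (c₀ : F) ≠ 0 := fun h => hc₀0 (Subtype.ext h)
  have hc₀q : (c₀ : F) ^ q = -(c₀ : F) := eq_neg_of_add_eq_zero_right hc₀
  have hcard : 6 ≤ Fintype.card (Fin n) := by rw [Fintype.card_fin]; exact hn
  have hmc₀ : ∀ x, RIso D x → Mem K (emb P x) c₀ := fun x hx => hK x hx _ c₀.2 hc₀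
  have step : ∀ a b : Fin n → F₀, RIso D a → RIso D b →
      (∀ r s : F₀, r • a + s • b = 0 → r = 0 ∧ s = 0) → hh (emb P a) (emb P b) = 0 →
      ∀ c : F, c + c ^ q = 0 → Mem K (emb P a) c → Mem K (emb P b) c := by
    intro a b ha hb hind hab c hc h
    have ht : ((-(c₀ * c₀)⁻¹ : F₀) : F) ^ q = ((-(c₀ * c₀)⁻¹ : F₀) : F) := by
      push_cast
      rw [neg_pow_q hF]
      simp only [inv_pow, mul_pow, hc₀q, inv_neg, neg_mul_neg, mul_inv]
    have := mem_transfer_orth D hn hK ha hb hind hab hc h hc₀ hc₀ hmc₀ hmc₀ _ ht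
    convert this using 1
    push_cast
    field_simp
  have mk2 : ∀ a b : Fin n → F₀, a ≠ 0 → (∀ k : F₀, b ≠ k • a) →
      ∀ r s : F₀, r • a + s • b = 0 → r = 0 ∧ s = 0 := by
    intro a b ha0 hb r s h
    by_cases hs : s = 0
    · rw [hs, zero_smul, add_zero, smul_eq_zero] at h
      exact ⟨h.resolve_right ha0, hs⟩
    · exfalso
      apply hb (-s⁻¹ * r)
      have h' := congrArg (fun x => s⁻¹ • x) h
      simp only [smul_add, smul_smul, smul_zero, inv_mul_cancel₀ hs, one_smul] at h'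
      rw [neg_mul, neg_smul, eq_neg_iff_add_eq_zero, ← h']
      abel
  have trans' : ∀ a b : Fin n → F₀, a ≠ 0 → b ≠ 0 → RIso D a → RIso D b →
      ∀ c : F, c + c ^ q = 0 → Mem K (emb P a) c → Mem K (emb P b) c := by
    intro a b ha0 hb0 ha hb c hc h
    by_cases hdep : ∃ k : F₀, b = k • a
    · obtain ⟨k, rfl⟩ := hdep
      obtain ⟨w, hwi, hwa, hwn⟩ := exists_iso_extend (unitary₀ D) (Submodule.span F₀ {a})
        (fun x hx y hy => by
          obtain ⟨r, rfl⟩ := Submodule.mem_span_singleton.1 hx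
          obtain ⟨s, rfl⟩ := Submodule.mem_span_singleton.1 hy
          rw [(unitary₀ D).smul_left, uf_smul_right (unitary₀ D),
            show f₀ D a a = 0 from Subtype.ext ha, mul_zero, mul_zero])
        (by rw [finrank_span_singleton ha0, Fintype.card_fin]; omega)
      have hw : RIso D w := congrArg Subtype.val hwi
      have hw0 : w ≠ 0 := fun h0 => hwn (h0 ▸ Submodule.zero_mem _)
      have hwa' : hh (emb P w) (emb P a) = 0 :=
        congrArg Subtype.val (hwa a (Submodule.mem_span_singleton_self a))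
      have hne : ∀ j : F₀, w ≠ j • a := fun j hj =>
        hwn (hj ▸ Submodule.smul_mem _ _ (Submodule.mem_span_singleton_self a))
      refine step w _ hw hb (fun r s h0 => ?_) (by rw [emb_smul, h_smul_right hF, hwa', mul_zero]) c hc
        (step a w ha hw (mk2 a w ha0 hne) ((h_eq_zero_comm hF).1 hwa') c hc h)
      obtain ⟨h1, h2⟩ := mk2 a w ha0 hne (s * k) r (by rw [← h0, smul_smul]; abel)
      exact ⟨h2, (mul_eq_zero.1 h1).resolve_right fun hk => hb0 (by rw [hk, zero_smul])⟩
    · push Not at hdep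
      by_cases hab : hh (emb P a) (emb P b) = 0
      · exact step a b ha hb (mk2 a b ha0 hdep) hab c hc h
      obtain ⟨w, hwi, hwa, hwb, hw0⟩ :=
        exists_iso_two (unitary₀ D) hcard a b (mk2 a b ha0 hdep) 0 0
      have hw : RIso D w := congrArg Subtype.val hwi
      have hwa' : hh (emb P w) (emb P a) = 0 := congrArg Subtype.val hwa
      have hwb' : hh (emb P w) (emb P b) = 0 := congrArg Subtype.val hwb
      have haw : ∀ j : F₀, w ≠ j • a := fun j hj => by
        rw [hj, emb_smul, h_smul_left, mul_eq_zero] at hwb'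
        exact hw0 (by rw [hj, show j = 0 from Subtype.ext (hwb'.resolve_right hab), zero_smul])
      have hbw : ∀ j : F₀, w ≠ j • b := fun j hj => by
        rw [hj, emb_smul, h_smul_left, mul_eq_zero] at hwa'
        exact hw0 (by
          rw [hj, show j = 0 from Subtype.ext (hwa'.resolve_right fun h' => hab
            ((h_eq_zero_comm hF).1 h')), zero_smul])
      refine step w b hw hb (fun r s h0 => ?_) hwb' c hc
        (step a w ha hw (mk2 a w ha0 haw) ((h_eq_zero_comm hF).1 hwa') c hc h)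
      exact (mk2 b w hb0 hbw s r (by rw [← h0]; abel)).symm
  -- the common scalars
  let C : Set F := {c | c + c ^ q = 0 ∧ ∀ x : Fin n → F₀, x ≠ 0 → RIso D x → Mem K (emb P x) c}
  have hC : ∀ c, c + c ^ q = 0 → Mem K (emb P u) c → c ∈ C := fun c hc h =>
    ⟨hc, fun x hx0 hx => trans' u x hu0 hx0 hu hx c hc h⟩
  have hCzero : ∀ x : Fin n → F₀, x = 0 → ∀ c : F, Mem K (emb P x) c := by
    rintro x rfl c A hA
    have : A = 1 := suMat_ext fun y => by
      rw [hA, suMat_one, ut_mulVec, emb_zero, smul_zero, add_zero, one_mulVec]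
    exact this ▸ one_mem K
  have hCall : ∀ c ∈ C, ∀ x : Fin n → F₀, RIso D x → Mem K (emb P x) c := fun c hc x hx => by
    by_cases hx0 : x = 0
    · exact hCzero x hx0 c
    · exact hc.2 x hx0 hx
  obtain ⟨w, hwi, hwu, hwn⟩ := exists_iso_extend (unitary₀ D) (Submodule.span F₀ {u})
    (fun x hx y hy => by
      obtain ⟨r, rfl⟩ := Submodule.mem_span_singleton.1 hx
      obtain ⟨s, rfl⟩ := Submodule.mem_span_singleton.1 hy
      rw [(unitary₀ D).smul_left, uf_smul_right (unitary₀ D),
        show f₀ D u u = 0 from Subtype.ext hu, mul_zero, mul_zero])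
    (by rw [finrank_span_singleton hu0, Fintype.card_fin]; omega)
  have hw : RIso D w := congrArg Subtype.val hwi
  have huw : hh (emb P u) (emb P w) = 0 := (h_eq_zero_comm hF).1
    (congrArg Subtype.val (hwu u (Submodule.mem_span_singleton_self u)))
  have hw0 : w ≠ 0 := fun h0 => hwn (h0 ▸ Submodule.zero_mem _)
  have huwind := mk2 u w hu0 fun j hj =>
    hwn (hj ▸ Submodule.smul_mem _ _ (Submodule.mem_span_singleton_self u))
  have hC3 : ∀ a ∈ C, ∀ b ∈ C, ∀ d ∈ C, a * b * d ∈ C := by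
    intro a ha b hb d hd
    have ha' : -a + (-a) ^ q = 0 := by rw [neg_pow_q hF]; linear_combination -ha.1
    have hm := mem_transfer_orth D hn hK hu hw huwind huw ha'
      (mem_neg D hu ha.1 (hCall a ha u hu)) hb.1 hd.1 (hCall b hb) (hCall d hd) 1 (one_pow q)
    have e1 : -(-a * b * d * ((1 : F₀) : F)) = a * b * d := by
      rw [OneMemClass.coe_one]; ring
    rw [e1] at hm
    have hanti : a * b * d + (a * b * d) ^ q = 0 := by
      rw [mul_pow, mul_pow, eq_neg_of_add_eq_zero_right ha.1, eq_neg_of_add_eq_zero_right hb.1,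
        eq_neg_of_add_eq_zero_right hd.1]
      ring
    exact ⟨hanti, fun x hx0 hx => trans' w x hw0 hx0 hw hx _ hanti hm⟩
  have hCF : ∀ c : F₀, (c : F) + (c : F) ^ q = 0 → (c : F) ∈ C := fun c hc =>
    ⟨hc, fun x _ hx => hK x hx _ c.2 hc⟩
  have hinv₀ : ((c₀⁻¹ : F₀) : F) ∈ C := hCF _ (by
    push_cast
    rw [inv_pow, hc₀q, inv_neg, add_neg_cancel])
  let B : Subring F :=
    { carrier := {x | x * (c₀ : F) ∈ C}
      one_mem' := by show (1 : F) * _ ∈ C; rw [one_mul]; exact hCF c₀ hc₀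
      mul_mem' := fun {x y} hx hy => by
        show x * y * (c₀ : F) ∈ C
        have := hC3 _ hx _ hy _ hinv₀
        push_cast at this
        convert this using 1
        field_simp
      zero_mem' := by
        show (0 : F) * _ ∈ C
        rw [zero_mul]
        exact hCF 0 (by simp [zero_pow (q_ne_zero hF)])
      add_mem' := fun {x y} hx hy => by
        show (x + y) * (c₀ : F) ∈ C
        rw [add_mul]
        exact ⟨by rw [add_pow_q hF]; linear_combination hx.1 + hy.1, fun v hv0 hv =>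
          mem_add D hv hx.1 hy.1 (hx.2 v hv0 hv) (hy.2 v hv0 hv)⟩
      neg_mem' := fun {x} hx => by
        show -x * (c₀ : F) ∈ C
        rw [neg_mul]
        exact ⟨by rw [neg_pow_q hF]; linear_combination -hx.1, fun v hv0 hv =>
          mem_neg D hv hx.1 (hx.2 v hv0 hv)⟩ }
  have hBfix : ∀ x ∈ B, x ^ q = x := fun x hx => by
    have h1 : x * (c₀ : F) + (x * (c₀ : F)) ^ q = 0 := hx.1
    rw [mul_pow, hc₀q] at h1
    have : (x - x ^ q) * (c₀ : F) = 0 := by linear_combination h1
    exact (sub_eq_zero.1 ((mul_eq_zero.1 this).resolve_right hc₀0')).symm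
  have hF1B : ∀ x : F₀, (x : F) ^ q = x → (x : F) ∈ B := fun x hx => by
    show (x : F) * (c₀ : F) ∈ C
    have := hCF (x * c₀) (by rw [MulMemClass.coe_mul, mul_pow, hx, hc₀q]; ring)
    rwa [MulMemClass.coe_mul] at this
  obtain ⟨κ, hκ⟩ := exists_moved D
  obtain ⟨r, hr, -, hcardF⟩ := D.codeg
  set T : F₀ := κ + sig D κ
  set N : F₀ := κ * sig D κ
  have hT : (T : F) = (κ : F) + (κ : F) ^ q := rfl
  have hN : (N : F) = (κ : F) * (κ : F) ^ q := rfl
  have hTB : (T : F) ∈ B := hF1B T (by rw [hT, trace_fixed hF])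
  have hNB : (N : F) ∈ B := hF1B N (by rw [hN, mul_pow, pow_q_pow_q hF, mul_comm])
  have hsq : (κ : F) * κ = (T : F) * κ - (N : F) := by rw [hT, hN]; ring
  let R : Subring F :=
    { carrier := {x | ∃ a ∈ B, ∃ b ∈ B, x = a + (κ : F) * b}
      one_mem' := ⟨1, B.one_mem, 0, B.zero_mem, by ring⟩
      mul_mem' := by
        rintro _ _ ⟨a, ha, b, hb, rfl⟩ ⟨c, hc, d, hd, rfl⟩
        exact ⟨a * c - (N : F) * (b * d), sub_mem (mul_mem ha hc) (mul_mem hNB (mul_mem hb hd)),
          a * d + b * c + (T : F) * (b * d),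
          add_mem (add_mem (mul_mem ha hd) (mul_mem hb hc)) (mul_mem hTB (mul_mem hb hd)),
          by linear_combination (b * d) * hsq⟩
      zero_mem' := ⟨0, B.zero_mem, 0, B.zero_mem, by ring⟩
      add_mem' := by
        rintro _ _ ⟨a, ha, b, hb, rfl⟩ ⟨c, hc, d, hd, rfl⟩
        exact ⟨a + c, add_mem ha hc, b + d, add_mem hb hd, by ring⟩
      neg_mem' := by
        rintro _ ⟨a, ha, b, hb, rfl⟩
        exact ⟨-a, neg_mem ha, -b, neg_mem hb, by ring⟩ }
  have hRinv : ∀ a ∈ R, a⁻¹ ∈ R := by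
    intro a ha
    by_cases h0 : a = 0
    · rw [h0, _root_.inv_zero]; exact R.zero_mem
    · have hq2 : 2 ≤ Fintype.card F := Fintype.one_lt_card
      have : a⁻¹ = a ^ (Fintype.card F - 2) := by
        refine inv_eq_of_mul_eq_one_right ?_
        rw [← pow_succ', show Fintype.card F - 2 + 1 = Fintype.card F - 1 by omega]
        exact FiniteField.pow_card_sub_one_eq_one a h0
      rw [this]
      exact pow_mem ha _
  let KF : Subfield F := { R with inv_mem' := hRinv }
  have hle : F₀ ≤ KF := by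
    intro x hx
    set x' : F₀ := ⟨x, hx⟩
    set b : F₀ := (x' - sig D x') / (κ - sig D κ)
    have hκ' : (κ : F) - (κ : F) ^ q ≠ 0 := sub_ne_zero.2 (Ne.symm hκ)
    have hbv : (b : F) = (x - x ^ q) / ((κ : F) - (κ : F) ^ q) := rfl
    have hbq : (b : F) ^ q = b := by
      rw [hbv, div_pow, sub_pow_q hF, sub_pow_q hF, pow_q_pow_q hF, pow_q_pow_q hF,
        ← neg_sub x, ← neg_sub (κ : F), neg_div_neg_eq]
    have hav : ((x' - κ * b : F₀) : F) = x - (κ : F) * b := rfl
    refine ⟨_, hF1B (x' - κ * b) ?_, _, hF1B b hbq, by rw [hav]; ring⟩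
    have e : (b : F) * ((κ : F) - (κ : F) ^ q) = x - x ^ q := by
      rw [hbv]; exact div_mul_cancel₀ _ hκ'
    rw [hav, sub_pow_q hF, mul_pow, hbq]
    linear_combination e
  have heB : e / (c₀ : F) ∈ B := by
    show e / (c₀ : F) * (c₀ : F) ∈ C
    rw [div_mul_cancel₀ _ hc₀0']
    exact hC e he hue
  have hlt : Nat.card F₀ < Nat.card KF := by
    rcases (Nat.card_le_card_of_injective _ (Set.inclusion_injective hle)).lt_or_eq with h | h
    · exact h
    · exfalso
      apply heF
      have hset : (F₀ : Set F) = KF := Set.eq_of_subset_of_ncard_le hle (by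
        rw [← Nat.card_coe_set_eq, ← Nat.card_coe_set_eq]; exact h.ge) (Set.toFinite _)
      have : e / (c₀ : F) ∈ F₀ := by
        rw [← SetLike.mem_coe, hset]
        exact ⟨_, heB, 0, B.zero_mem, by ring⟩
      have := mul_mem this c₀.2
      rwa [div_mul_cancel₀ _ hc₀0'] at this
  have htop := subfield_eq_top_of_lt hr hcardF hle hlt
  refine eq_top_of_rat_ctr D hn K fun x hx => ⟨hx, fun A c hc hA => ?_⟩
  suffices c ∈ C from hCall c this x hx A hA
  obtain ⟨a, ha, b, hb, hab⟩ : c / (c₀ : F) ∈ KF := htop ▸ Subfield.mem_top _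
  have hfix : (c / (c₀ : F)) ^ q = c / (c₀ : F) := by
    rw [div_pow, hc₀q, eq_neg_of_add_eq_zero_right hc, neg_div_neg_eq]
  rw [hab, add_pow_q hF, mul_pow, hBfix a ha, hBfix b hb] at hfix
  have hb0 : b = 0 := by
    have : ((κ : F) ^ q - κ) * b = 0 := by linear_combination hfix
    exact (mul_eq_zero.1 this).resolve_left (sub_ne_zero.2 hκ)
  rw [hb0, mul_zero, add_zero] at hab
  have hin : c / (c₀ : F) ∈ B := hab ▸ ha
  have hin' : c / (c₀ : F) * (c₀ : F) ∈ C := hin
  rwa [div_mul_cancel₀ _ hc₀0'] at hin'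

theorem exists_tot_iso (hn : 6 ≤ n) : ∀ k ≤ 3, ∃ W : Submodule F₀ (Fin n → F₀),
    Module.finrank F₀ W = k ∧ ∀ a ∈ W, ∀ b ∈ W, f₀ D a b = 0 := by
  intro k
  induction k with
  | zero =>
    exact fun _ => ⟨⊥, finrank_bot F₀ _, fun a ha b _ => by
      rw [(Submodule.mem_bot F₀).1 ha]; exact uf_zero_left (unitary₀ D) b⟩
  | succ k ih =>
    intro hk
    obtain ⟨W, hW, hWi⟩ := ih (by omega)
    obtain ⟨v, hv, hvW, hvn⟩ :=
      exists_iso_extend (unitary₀ D) W hWi (by rw [hW, Fintype.card_fin]; omega)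
    have hv0 : v ≠ 0 := fun h => hvn (h ▸ W.zero_mem)
    refine ⟨W ⊔ Submodule.span F₀ {v}, ?_, ?_⟩
    · have h1 := Submodule.finrank_sup_add_finrank_inf_eq W (Submodule.span F₀ {v})
      have h2 : W ⊓ Submodule.span F₀ {v} = ⊥ := by
        rw [eq_bot_iff]
        rintro x ⟨hx, hx'⟩
        obtain ⟨r, rfl⟩ := Submodule.mem_span_singleton.1 hx'
        by_cases hr : r = 0
        · simp [hr]
        · exact absurd (by simpa [smul_smul, hr] using W.smul_mem r⁻¹ hx) hvn
      rw [h2, finrank_bot, finrank_span_singleton hv0, hW, add_zero] at h1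
      exact h1
    · intro a ha b hb
      obtain ⟨a', ha', x, hx, rfl⟩ := Submodule.mem_sup.1 ha
      obtain ⟨b', hb', y, hy, rfl⟩ := Submodule.mem_sup.1 hb
      obtain ⟨r, rfl⟩ := Submodule.mem_span_singleton.1 hx
      obtain ⟨s, rfl⟩ := Submodule.mem_span_singleton.1 hy
      rw [(unitary₀ D).add_left, uf_add_right (unitary₀ D), uf_add_right (unitary₀ D),
        (unitary₀ D).smul_left, uf_smul_right (unitary₀ D), uf_smul_right (unitary₀ D),
        (unitary₀ D).smul_left, hWi a' ha' b' hb', hv, hvW b' hb', (unitary₀ D).herm a' v,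
        hvW a' ha', map_zero]
      simp

theorem exists_good_of_no_orth (hn : 6 ≤ n) {K : Subgroup (SU n F q)} (hK : HasRat D K) {z : V}
    {c : F} (h : Mem K z c) (hc0 : c ≠ 0) (hc : c + c ^ q = 0) (hz : hh z z = 0)
    (hne : ∀ v : Fin n → F₀, RIso D v → v ≠ 0 → hh z (emb P v) ≠ 0) : GoodScalar D K := by
  classical
  by_contra hno
  have hF := D.hF
  obtain ⟨c₀, hc₀0, hc₀⟩ := exists_anti₀ D
  have hc₀0' : (c₀ : F) ≠ 0 := fun h => hc₀0 (Subtype.ext h)
  obtain ⟨κ, hκ⟩ := exists_moved D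
  obtain ⟨E, hE, hEi⟩ := exists_tot_iso D hn 3 le_rfl
  have hEh : ∀ a ∈ E, ∀ b ∈ E, hh (emb P a) (emb P b) = 0 := fun a ha b hb =>
    congrArg Subtype.val (hEi a ha b hb)
  have hφ : ∀ v ∈ E, v ≠ 0 → hh z (emb P v) ≠ 0 := fun v hv => hne v (hEh v hv v hv)
  have hEne : E ≠ ⊥ := fun h0 => by rw [h0, finrank_bot] at hE; omega
  obtain ⟨v₁, hv₁, hv₁0⟩ := (Submodule.ne_bot_iff E).1 hEne
  set Z₁ := emb P v₁ with hZ₁
  set β := hh z Z₁ with hβdef
  have hβ : β ≠ 0 := hφ v₁ hv₁ hv₁0
  have hβ' : hh Z₁ z ≠ 0 := fun h0 => hβ ((h_eq_zero_comm hF).1 h0)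
  have hZ₁Z₁ : hh Z₁ Z₁ = 0 := hEh v₁ hv₁ v₁ hv₁
  set τ := (c₀ : F) / β with hτ
  have hτ0 : τ ≠ 0 := div_ne_zero hc₀0' hβ
  -- the coordinates
  let A : V → F := fun y => hh y z
  let B : V → F := fun y => hh y Z₁ * τ
  set a : V := (hh Z₁ z)⁻¹ • Z₁ with ha
  set b : V := (β * τ)⁻¹ • z with hb
  have hAa : hh a z = 1 := by rw [ha, h_smul_left, inv_mul_cancel₀ hβ']
  have hBa : hh a Z₁ = 0 := by rw [ha, h_smul_left, hZ₁Z₁, mul_zero]
  have hAb : hh b z = 0 := by rw [hb, h_smul_left, hz, mul_zero]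
  have hBb : hh b Z₁ * τ = 1 := by
    rw [hb, h_smul_left, ← hβdef]
    field_simp
  let Sp : Submodule F V := Submodule.span F (emb P '' (E : Set (Fin n → F₀)))
  let Wb : Submodule F V := Sp ⊔ Submodule.span F {z}
  have hSpW : ∀ y ∈ Sp, y ∈ Wb := fun y hy => Submodule.mem_sup_left hy
  have hEW : ∀ v ∈ E, emb P v ∈ Sp := fun v hv => Submodule.subset_span ⟨v, hv, rfl⟩
  have hzW : z ∈ Wb := Submodule.mem_sup_right (Submodule.mem_span_singleton_self z)
  have haW : a ∈ Wb := Wb.smul_mem _ (hSpW _ (hEW v₁ hv₁))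
  have hbW : b ∈ Wb := Wb.smul_mem _ hzW
  have haSp : a ∈ Sp := Sp.smul_mem _ (hEW v₁ hv₁)
  clear_value a b
  have hSpE : ∀ y ∈ Sp, ∀ v ∈ E, hh y (emb P v) = 0 := by
    intro y hy v hv
    induction hy using Submodule.span_induction with
    | mem x hx => obtain ⟨u, hu, rfl⟩ := hx; exact hEh u hu v hv
    | zero => exact h_zero_left _
    | add x x' _ _ h1 h2 => rw [h_add_left, h1, h2, add_zero]
    | smul r x _ h1 => rw [h_smul_left, h1, mul_zero]
  have hdecW : ∀ y ∈ Wb, ∃ e ∈ Sp, ∃ α : F, y = e + α • z := by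
    intro y hy
    obtain ⟨e, he, x, hx, rfl⟩ := Submodule.mem_sup.1 hy
    obtain ⟨α, rfl⟩ := Submodule.mem_span_singleton.1 hx
    exact ⟨e, he, α, rfl⟩
  have hWE : ∀ y ∈ Wb, ∀ v ∈ E, hh y (emb P v) = hh y Z₁ / β * hh z (emb P v) := by
    intro y hy v hv
    obtain ⟨e, he, α, rfl⟩ := hdecW y hy
    rw [h_add_left, h_smul_left, h_add_left, h_smul_left, hSpE e he v hv, hSpE e he v₁ hv₁,
      ← hβdef, zero_add, zero_add, mul_div_cancel_right₀ _ hβ]
  have hB0 : ∀ y ∈ Wb, hh y Z₁ = 0 → y ∈ Sp := by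
    intro y hy h0
    obtain ⟨e, he, α, rfl⟩ := hdecW y hy
    rw [h_add_left, h_smul_left, hSpE e he v₁ hv₁, ← hβdef, zero_add, mul_eq_zero] at h0
    rw [h0.resolve_right hβ, zero_smul, add_zero]
    exact he
  -- the subgroup acting on the plane
  let Fxs : SU n F q → Prop := fun g => (∀ y ∈ Wb, suMat g *ᵥ y ∈ Wb) ∧
    ∀ y ∈ Wb, hh y z = 0 → hh y Z₁ = 0 → suMat g *ᵥ y = y
  have hFmul : ∀ g g', Fxs g → Fxs g' → Fxs (g * g') := fun g g' hg hg' =>
    ⟨fun y hy => by rw [suMat_mulVec_mul]; exact hg.1 _ (hg'.1 y hy),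
     fun y hy h1 h2 => by rw [suMat_mulVec_mul, hg'.2 y hy h1 h2, hg.2 y hy h1 h2]⟩
  have hFone : Fxs 1 :=
    ⟨fun y hy => by rwa [suMat_one, one_mulVec], fun y _ _ _ => by rw [suMat_one, one_mulVec]⟩
  let ρ : SU n F q → Matrix (Fin 2) (Fin 2) F := fun g =>
    !![hh (suMat g *ᵥ b) Z₁ * τ, hh (suMat g *ᵥ a) Z₁ * τ;
       hh (suMat g *ᵥ b) z, hh (suMat g *ᵥ a) z]
  have hact : ∀ g, Fxs g → ∀ y ∈ Wb, suMat g *ᵥ y =
      (hh y Z₁ * τ) • (suMat g *ᵥ b) + hh y z • (suMat g *ᵥ a) +
        (y - (hh y Z₁ * τ) • b - hh y z • a) := by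
    intro g hg y hy
    set u := y - (hh y Z₁ * τ) • b - hh y z • a with hu
    have hu' : suMat g *ᵥ u = u := hg.2 u
      (Wb.sub_mem (Wb.sub_mem hy (Wb.smul_mem _ hbW)) (Wb.smul_mem _ haW))
      (by rw [hu, h_sub_left, h_sub_left, h_smul_left, h_smul_left, hAb, hAa]; ring)
      (by rw [hu, h_sub_left, h_sub_left, h_smul_left, h_smul_left, hBa]
          linear_combination (-(hh y Z₁)) * hBb)
    conv_rhs => rw [← hu', ← Matrix.mulVec_smul, ← Matrix.mulVec_smul, ← Matrix.mulVec_add,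
      ← Matrix.mulVec_add]
    congr 1
    rw [hu]
    abel
  have hρmul : ∀ g g', Fxs g → Fxs g' → ρ (g * g') = ρ g * ρ g' := by
    intro g g' hg hg'
    have key : ∀ y ∈ Wb, hh (suMat g *ᵥ y) Z₁ * τ =
        (hh y Z₁ * τ) * (hh (suMat g *ᵥ b) Z₁ * τ) + hh y z * (hh (suMat g *ᵥ a) Z₁ * τ) ∧
      hh (suMat g *ᵥ y) z =
        (hh y Z₁ * τ) * hh (suMat g *ᵥ b) z + hh y z * hh (suMat g *ᵥ a) z := by
      intro y hy
      rw [hact g hg y hy]
      simp only [h_add_left, h_sub_left, h_smul_left, hAa, hBa, hAb]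
      exact ⟨by linear_combination (-(hh y Z₁ * τ)) * hBb, by ring⟩
    simp only [ρ, suMat_mulVec_mul, Matrix.mul_fin_two]
    rw [(key _ (hg'.1 b hbW)).1, (key _ (hg'.1 b hbW)).2, (key _ (hg'.1 a haW)).1,
      (key _ (hg'.1 a haW)).2]
    ext i j
    fin_cases i <;> fin_cases j <;> simp <;> ring
  have hρone : ρ 1 = 1 := by
    simp only [ρ, suMat_one, one_mulVec, hBb, hBa, hAb, hAa, zero_mul, Matrix.one_fin_two]
  set L := fixF D with hL
  haveI : Fintype L := Fintype.ofFinite L
  let toF : SL(2, L) → Matrix (Fin 2) (Fin 2) F :=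
    fun x => (x : Matrix (Fin 2) (Fin 2) L).map (L.subtype)
  let Gm : Submonoid SL(2, L) :=
    { carrier := {x | ∃ g, g ∈ K ∧ Fxs g ∧ ρ g = toF x}
      one_mem' := ⟨1, K.one_mem, hFone, by
        simp only [toF, Matrix.SpecialLinearGroup.coe_one]
        rw [hρone, Matrix.map_one _ (map_zero _) (map_one _)]⟩
      mul_mem' := fun {x y} hx hy => by
        obtain ⟨g, hg1, hg2, hg3⟩ := hx
        obtain ⟨g', hg1', hg2', hg3'⟩ := hy
        exact ⟨g * g', mul_mem hg1 hg1', hFmul g g' hg2 hg2', by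
          rw [hρmul g g' hg2 hg2', hg3, hg3']
          simp only [toF, Matrix.SpecialLinearGroup.coe_mul, Matrix.map_mul]⟩ }
  let G : Subgroup SL(2, L) :=
    { Gm with
      inv_mem' := fun {x} hx => by
        have h1 : x ^ (orderOf x - 1) = x⁻¹ := by
          refine eq_inv_of_mul_eq_one_left ?_
          rw [← pow_succ, Nat.sub_add_cancel (orderOf_pos x), pow_orderOf_eq_one]
        rw [← h1]
        exact Submonoid.pow_mem Gm hx _ }
  -- lower elements
  let Nm : (Fin n → F₀) → L := fun v => ⟨hh z (emb P v) * hh z (emb P v) ^ q, by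
    show _ ^ q = _
    rw [mul_pow, pow_q_pow_q hF, mul_comm]⟩
  let S : AddSubgroup L := AddSubgroup.closure (Nm '' (E : Set (Fin n → F₀)))
  have hlow : ∀ x ∈ S, loSL x ∈ G := by
    intro x hx
    induction hx using AddSubgroup.closure_induction with
    | mem x hx =>
      obtain ⟨v, hv, rfl⟩ := hx
      have hvv : hh (emb P v) (emb P v) = 0 := hEh v hv v hv
      refine ⟨tv hF (emb P v) c₀ hvv hc₀, hK v hvv _ c₀.2 hc₀ _ rfl, ⟨fun y hy => ?_,
        fun y hy h1 h2 => ?_⟩, ?_⟩
      · rw [tv_mulVec]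
        exact Wb.add_mem hy (Wb.smul_mem _ (hSpW _ (hEW v hv)))
      · rw [tv_mulVec, hWE y hy v hv, h2, zero_div, zero_mul, mul_zero, zero_smul, add_zero]
      · simp only [ρ, toF, tv_mulVec, coe_loSL, h_add_left, h_smul_left, hEh v hv v₁ hv₁,
          show hh (emb P v) Z₁ = 0 from hEh v hv v₁ hv₁, mul_zero, add_zero,
          hWE b hbW v hv, hWE a haW v hv, hBa, hAb, hAa, zero_div, zero_mul, mul_zero]
        rw [hBb]
        have hbz : hh b Z₁ = 1 / τ := by rw [eq_div_iff hτ0]; exact hBb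
        rw [hbz, h_symm hF z (emb P v)]
        ext i j
        fin_cases i <;> fin_cases j <;> simp [Nm]
        rw [hτ]
        field_simp
        exact Or.inl trivial
    | zero => rw [loSL_zero]; exact G.one_mem
    | add x y _ _ h1 h2 => rw [← loSL_mul]; exact G.mul_mem h1 h2
    | neg x _ h1 =>
      have : loSL (-x) = (loSL x)⁻¹ := eq_inv_of_mul_eq_one_left (by
        rw [loSL_mul, neg_add_cancel, loSL_zero])
      rw [this]
      exact G.inv_mem h1
  have hupval : (c * (c₀ : F)) ^ q = c * c₀ := by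
    rw [mul_pow, eq_neg_of_add_eq_zero_right hc, eq_neg_of_add_eq_zero_right hc₀, neg_mul_neg]
  have hup : H39.upSL (⟨c * (c₀ : F), hupval⟩ : L) ∈ G := by
    refine ⟨tv hF z c hz hc, h _ rfl, ⟨fun y hy => ?_, fun y hy h1 h2 => ?_⟩, ?_⟩
    · rw [tv_mulVec]; exact Wb.add_mem hy (Wb.smul_mem _ hzW)
    · rw [tv_mulVec, h1, mul_zero, zero_smul, add_zero]
    · simp only [ρ, toF, tv_mulVec, H39.coe_upSL, h_add_left, h_smul_left, hz, hBa, hAb, hAa,
        mul_zero, add_zero, zero_mul, ← hβdef]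
      rw [hBb]
      ext i j
      fin_cases i <;> fin_cases j <;> simp
      rw [hτ]
      field_simp
  -- the small field inside the fixed field
  let F₁ : Subfield L := F₀.comap L.subtype
  obtain ⟨r, hr, hro, hcardF⟩ := D.codeg
  have hF1sq : Nat.card F₀ = Nat.card F₁ ^ 2 := by
    have hκ' : (κ : F) - (κ : F) ^ q ≠ 0 := sub_ne_zero.2 (Ne.symm hκ)
    let T : F₁ × F₁ → F₀ := fun p =>
      ⟨((p.1 : L) : F) + (κ : F) * ((p.2 : L) : F), add_mem p.1.2 (mul_mem κ.2 p.2.2)⟩
    have hb : Function.Bijective T := by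
      constructor
      · intro x y hxy
        have e : ((x.1 : L) : F) + κ * ((x.2 : L) : F) = ((y.1 : L) : F) + κ * ((y.2 : L) : F) :=
          congrArg Subtype.val hxy
        have hx1 : ((x.1 : L) : F) ^ q = (x.1 : L) := (x.1 : L).2
        have hx2 : ((x.2 : L) : F) ^ q = (x.2 : L) := (x.2 : L).2
        have hy1 : ((y.1 : L) : F) ^ q = (y.1 : L) := (y.1 : L).2
        have hy2 : ((y.2 : L) : F) ^ q = (y.2 : L) := (y.2 : L).2
        have e' := congrArg (· ^ q) e
        simp only [add_pow_q hF, mul_pow, hx1, hx2, hy1, hy2] at e'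
        have h2 : ((x.2 : L) : F) = (y.2 : L) := by
          apply mul_left_cancel₀ hκ'
          linear_combination e - e'
        have h1 : ((x.1 : L) : F) = (y.1 : L) := by linear_combination e - (κ : F) * h2
        exact Prod.ext (Subtype.ext (Subtype.ext h1)) (Subtype.ext (Subtype.ext h2))
      · intro x
        set s : F := ((x : F) - (x : F) ^ q) / ((κ : F) - (κ : F) ^ q) with hs
        have hsq : s ^ q = s := by
          rw [hs, div_pow, sub_pow_q hF, sub_pow_q hF, pow_q_pow_q hF, pow_q_pow_q hF,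
            ← neg_sub (x : F), ← neg_sub (κ : F), neg_div_neg_eq]
        have hs' : s * ((κ : F) - (κ : F) ^ q) = (x : F) - (x : F) ^ q := by
          rw [hs]; exact div_mul_cancel₀ _ hκ'
        have hs0 : s ∈ F₀ := div_mem (sub_mem x.2 (pow_mem' D x.2)) (sub_mem κ.2 (pow_mem' D κ.2))
        have hrq : ((x : F) - (κ : F) * s) ^ q = (x : F) - (κ : F) * s := by
          rw [sub_pow_q hF, mul_pow, hsq]
          linear_combination hs'
        exact ⟨(⟨⟨_, hrq⟩, sub_mem x.2 (mul_mem κ.2 hs0)⟩, ⟨⟨s, hsq⟩, hs0⟩),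
          Subtype.ext (by show (x : F) - (κ : F) * s + (κ : F) * s = x; ring)⟩
    rw [sq, ← Nat.card_prod, Nat.card_congr (Equiv.ofBijective T hb)]
  have hLcard : Nat.card L = Nat.card F₁ ^ r := by
    have hcf : Nat.card L = q := card_fixF D
    rw [hcf]
    apply Nat.pow_left_injective two_ne_zero
    show q ^ 2 = (Nat.card F₁ ^ r) ^ 2
    rw [← hF, ← pow_mul, mul_comm r 2, pow_mul, ← hF1sq, ← Nat.card_eq_fintype_card]
    exact hcardF
  have hS0 : ∀ d ∈ F₁, ∀ x ∈ S, d * x ∈ S := by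
    intro d hd x hx
    obtain ⟨k, hk⟩ := H38.exists_norm_eq (σ := (sig D : F₀ →+* F₀)) (sigma_ne (unitary₀ D))
      (unitary₀ D).involutive (μ := (⟨(d : F), hd⟩ : F₀)) (Subtype.ext d.2)
    have hk' : (k : F) ^ q * k = d := congrArg Subtype.val hk
    induction hx using AddSubgroup.closure_induction with
    | mem x hx =>
      obtain ⟨v, hv, rfl⟩ := hx
      refine AddSubgroup.subset_closure ⟨k • v, E.smul_mem k hv, Subtype.ext ?_⟩
      show hh z (emb P (k • v)) * hh z (emb P (k • v)) ^ q = (d : F) * (Nm v : F)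
      rw [emb_smul, h_smul_right hF, mul_pow, pow_q_pow_q hF, ← hk']
      show _ = _ * (hh z (emb P v) * hh z (emb P v) ^ q)
      ring
    | zero => rw [mul_zero]; exact S.zero_mem
    | add x y _ _ h1 h2 => rw [mul_add]; exact S.add_mem h1 h2
    | neg x _ h1 => rw [mul_neg]; exact S.neg_mem h1
  -- size of S
  let tr₂ : F → L := fun x => ⟨x + x ^ q, trace_fixed hF x⟩
  have hpol : ∀ v ∈ E, tr₂ (hh z (emb P v) * hh z Z₁ ^ q) ∈ S := by
    intro v hv
    have e : tr₂ (hh z (emb P v) * hh z Z₁ ^ q) = Nm (v + v₁) - Nm v - Nm v₁ := by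
      refine Subtype.ext ?_
      show _ = hh z (emb P (v + v₁)) * hh z (emb P (v + v₁)) ^ q -
        hh z (emb P v) * hh z (emb P v) ^ q - hh z (emb P v₁) * hh z (emb P v₁) ^ q
      rw [emb_add, h_add_right hF, add_pow_q hF, ← hZ₁]
      show hh z (emb P v) * hh z Z₁ ^ q + (hh z (emb P v) * hh z Z₁ ^ q) ^ q = _
      rw [mul_pow, pow_q_pow_q hF]
      ring
    rw [e]
    exact S.sub_mem (S.sub_mem (AddSubgroup.subset_closure ⟨_, E.add_mem hv hv₁, rfl⟩)
      (AddSubgroup.subset_closure ⟨v, hv, rfl⟩)) (AddSubgroup.subset_closure ⟨v₁, hv₁, rfl⟩)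
  have hScard : Nat.card F₁ ^ 3 ≤ Nat.card S := by
    let T : E → S × S := fun v =>
      (⟨_, hpol v v.2⟩, ⟨_, hpol (κ • (v : Fin n → F₀)) (E.smul_mem κ v.2)⟩)
    have hTi : Function.Injective T := by
      intro v w hvw
      have t1 : _ + _ = _ + _ := congrArg (fun p : S × S => ((p.1 : L) : F)) hvw
      have t2 : _ + _ = _ + _ := congrArg (fun p : S × S => ((p.2 : L) : F)) hvw
      set x := (hh z (emb P (v : Fin n → F₀)) - hh z (emb P (w : Fin n → F₀))) * hh z Z₁ ^ q with hx
      have x1 : x + x ^ q = 0 := by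
        rw [hx, mul_pow, sub_pow_q hF]
        rw [mul_pow, mul_pow] at t1
        linear_combination t1
      have x2 : (κ : F) ^ q * x + κ * x ^ q = 0 := by
        rw [hx, mul_pow, sub_pow_q hF, pow_q_pow_q hF]
        simp only [emb_smul, h_smul_right hF, mul_pow, pow_q_pow_q hF] at t2
        linear_combination t2
      have hx0 : x = 0 := by
        have : ((κ : F) ^ q - κ) * x = 0 := by linear_combination x2 - (κ : F) * x1
        exact (mul_eq_zero.1 this).resolve_left (sub_ne_zero.2 hκ)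
      rw [hx, mul_eq_zero] at hx0
      have hd := hx0.resolve_right (pow_ne_zero _ hβ)
      by_contra hne'
      have hne'' : (v : Fin n → F₀) - w ≠ 0 := sub_ne_zero.2 fun h' => hne' (Subtype.ext h')
      apply hφ _ (E.sub_mem v.2 w.2) hne''
      rw [sub_eq_add_neg, ← neg_one_smul F₀ (w : Fin n → F₀), emb_add, emb_smul, h_add_right hF,
        h_smul_right hF, NegMemClass.coe_neg, OneMemClass.coe_one, neg_pow_q hF, one_pow]
      linear_combination hd
    have h1 := Nat.card_le_card_of_injective T hTi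
    rw [Nat.card_prod, Module.natCard_eq_pow_finrank (K := F₀), hE, hF1sq, ← pow_mul] at h1
    by_contra hlt
    push Not at hlt
    have h2 := Nat.mul_lt_mul'' hlt hlt
    rw [← pow_add] at h2
    have h3 : Nat.card F₁ ^ (2 * 3) = Nat.card F₁ ^ (3 + 3) := by norm_num
    omega
  have hQ1 : 2 ≤ Nat.card F₁ := Finite.one_lt_card
  have h8 : 8 ≤ Nat.card S := by
    have := Nat.pow_le_pow_left hQ1 3
    omega
  have hp3 : ringChar L ^ 3 ≤ Nat.card S := by
    have hp : ringChar L ≤ Nat.card F₁ := by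
      haveI : Fintype F₁ := Fintype.ofFinite _
      haveI : CharP L (ringChar L) := ringChar.charP L
      haveI : CharP F₁ (ringChar L) := RingHom.charP F₁.subtype F₁.subtype.injective (ringChar L)
      obtain ⟨e, hprime, he⟩ := FiniteField.card F₁ (ringChar L)
      rw [Nat.card_eq_fintype_card, he]
      exact Nat.le_self_pow e.ne_zero _
    exact (Nat.pow_le_pow_left hp 3).trans hScard
  have hlt : Nat.card F₁ < Nat.card S := by
    calc Nat.card F₁ = Nat.card F₁ ^ 1 := (pow_one _).symm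
      _ < Nat.card F₁ ^ 3 := Nat.pow_lt_pow_right (by omega) (by norm_num)
      _ ≤ _ := hScard
  have hupne : (⟨c * (c₀ : F), hupval⟩ : L) ≠ 0 := fun h0 =>
    mul_ne_zero hc0 hc₀0' (congrArg Subtype.val h0)
  have hnd : ¬ Nat.card S ∣ 120 ∨ (Nat.card S = 8 ∧ ringChar L = 2) := by
    haveI : Fintype L := Fintype.ofFinite L
    haveI : CharP L (ringChar L) := ringChar.charP L
    obtain ⟨e, hprime, he⟩ := FiniteField.card L (ringChar L)
    have hdvd : Nat.card S ∣ ringChar L ^ (e : ℕ) := by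
      rw [← he, ← Nat.card_eq_fintype_card]; exact S.card_addSubgroup_dvd_card
    obtain ⟨j, -, hj⟩ := (Nat.dvd_prime_pow hprime).1 hdvd
    exact card_cases hprime (hj ▸ h8) (hj ▸ hp3) hj
  have htop := proj_map_eq_top_of_nd G F₁ hr hLcard S hS0 h8 hnd hp3 hlt hupne hlow hup
  -- a torus element outside the small field
  obtain ⟨s, hs⟩ : ∃ s : L, s ∉ F₁ := by
    by_contra hall
    push Not at hall
    have h1 : Nat.card F₁ = Nat.card L := Nat.card_congr (Equiv.subtypeUnivEquiv hall)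
    rw [← h1] at hLcard
    have := Nat.pow_lt_pow_right (show 1 < Nat.card F₁ by omega) hr.one_lt
    rw [pow_one, ← hLcard] at this
    omega
  have hs0 : s ≠ 0 := fun h0 => hs (h0 ▸ F₁.zero_mem)
  let d : SL(2, L) := ⟨!![s⁻¹, 0; 0, s], by simp [Matrix.det_fin_two, hs0]⟩
  have hd : H39.proj d ∈ G.map H39.proj := by rw [htop]; exact Subgroup.mem_top _
  obtain ⟨x, hxG, hxd⟩ := hd
  obtain ⟨g, hgK, hgF, hgρ⟩ := hxG
  obtain ⟨ε, hε, hx01, hx11⟩ : ∃ ε : L, ε * ε = 1 ∧ x 0 1 = 0 ∧ x 1 1 = ε * s := by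
    rcases H39.proj_eq_proj_iff.1 hxd with h' | h'
    · exact ⟨1, one_mul 1, by rw [← h']; simp [d], by rw [← h']; simp [d]⟩
    · refine ⟨-1, by ring, ?_, ?_⟩ <;>
        rw [show x = -d by rw [h', neg_neg], Matrix.SpecialLinearGroup.coe_neg] <;> simp [d]
  have r01 : hh (suMat g *ᵥ a) Z₁ * τ = 0 := by
    have := congrFun (congrFun hgρ 0) 1
    simpa [ρ, toF, hx01] using this
  set η : F := ((ε * s : L) : F) with hη
  have r11 : hh (suMat g *ᵥ a) z = η := by
    have := congrFun (congrFun hgρ 1) 1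
    simpa [ρ, toF, hx11, hη] using this
  have hηF : η ∉ F₀ := by
    intro hmem
    apply hs
    have h1 : (ε * s : L) ∈ F₁ := hmem
    have hεF : ε ∈ F₁ := by
      rcases mul_self_eq_one_iff.1 hε with h2 | h2 <;> rw [h2]
      · exact F₁.one_mem
      · exact neg_mem F₁.one_mem
    have := mul_mem hεF h1
    rwa [← mul_assoc, hε, one_mul] at this
  set u : V := suMat g *ᵥ a - a with hu
  have hgaB : hh (suMat g *ᵥ a) Z₁ = 0 := (mul_eq_zero.1 r01).resolve_right hτ0
  have hgaSp : suMat g *ᵥ a ∈ Sp := hB0 _ (hgF.1 a haW) hgaB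
  have huSp : u ∈ Sp := Sp.sub_mem hgaSp haSp
  have huA : hh u z = η - 1 := by rw [hu, h_sub_left, r11, hAa]
  have hgSp : ∀ y ∈ Sp, suMat g *ᵥ y = y + hh y z • u := by
    intro y hy
    have h0 : hh y Z₁ = 0 := hSpE y hy v₁ hv₁
    rw [hact g hgF y (hSpW y hy), h0, zero_mul, zero_smul, zero_smul, hu, smul_sub]
    abel
  have hgA : ∀ y ∈ Sp, hh (suMat g *ᵥ y) z = η * hh y z := by
    intro y hy
    rw [hgSp y hy, h_add_left, h_smul_left, huA]
    ring
  -- images of rational centres are rational points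
  have hpoint : ∀ v : Fin n → F₀, v ≠ 0 → emb P v ∈ Sp →
      ∃ (l : F) (w : Fin n → F₀), suMat g *ᵥ emb P v = l • emb P w := by
    intro v hv0 hvSp
    by_contra hcon
    push Not at hcon
    have hvv : hh (emb P v) (emb P v) = 0 := by
      have key : ∀ y ∈ Sp, hh (emb P v) y = 0 := by
        intro y hy
        induction hy using Submodule.span_induction with
        | mem x hx => obtain ⟨w, hw, rfl⟩ := hx; exact hSpE _ hvSp w hw
        | zero => exact h_zero_right hF _
        | add x x' _ _ h1 h2 => rw [h_add_right hF, h1, h2, add_zero]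
        | smul r x _ h1 => rw [h_smul_right hF, h1, mul_zero]
      exact key _ hvSp
    have hgSp' : suMat g *ᵥ emb P v ∈ Sp := by
      rw [hgSp _ hvSp]; exact Sp.add_mem hvSp (Sp.smul_mem _ huSp)
    exact hno (exists_good_of_orth D (by omega) hK (mem_conj D (hK v hvv _ c₀.2 hc₀) hgK)
      hc₀0' hc₀ c₀.2 (by rw [suMat_h, hvv]) hcon
      (v := v₁) (hEh v₁ hv₁ v₁ hv₁) hv₁0 (hSpE _ hgSp' v₁ hv₁))
  have hA0 : ∀ v ∈ E, v ≠ 0 → hh (emb P v) z ≠ 0 := fun v hv hv0 h0 =>
    hφ v hv hv0 ((h_eq_zero_comm hF).1 h0)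
  have hinj : Function.Injective (fun y : V => suMat g *ᵥ y) := fun y y' hyy => by
    have := congrArg (suMat g⁻¹ *ᵥ ·) hyy
    simp only [suMat_inv_mulVec] at this
    exact this
  obtain ⟨v, hvE, hv0, hvind⟩ : ∃ v ∈ E, v ≠ 0 ∧ ∀ k : F₀, v ≠ k • v₁ := by
    have h1 : ¬ (E ≤ Submodule.span F₀ {v₁}) := fun hle => by
      have := Submodule.finrank_mono hle
      rw [finrank_span_singleton hv₁0, hE] at this
      omega
    obtain ⟨v, hv, hvn⟩ := SetLike.not_le_iff_exists.1 h1
    exact ⟨v, hv, fun h => hvn (h ▸ Submodule.zero_mem _),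
      fun k hk => hvn (hk ▸ Submodule.smul_mem _ _ (Submodule.mem_span_singleton_self v₁))⟩
  obtain ⟨l₁, w₁, he₁⟩ := hpoint v₁ hv₁0 (hEW _ hv₁)
  obtain ⟨l, w, he⟩ := hpoint v hv0 (hEW _ hvE)
  obtain ⟨l₂, w₂, he₂⟩ := hpoint (v₁ + v) (fun h0 => hvind (-1) (by
    rw [neg_smul, one_smul]; exact eq_neg_of_add_eq_zero_right h0)) (hEW _ (E.add_mem hv₁ hvE))
  have hne1 : l₁ ≠ 0 := fun h0 => by
    rw [h0, zero_smul] at he₁
    exact emb_ne_zero hv₁0 (hinj (by simpa using he₁))
  have hne : l ≠ 0 := fun h0 => by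
    rw [h0, zero_smul] at he
    exact emb_ne_zero hv0 (hinj (by simpa using he))
  have hw₁0 : w₁ ≠ 0 := fun h0 => by
    rw [h0, emb_zero, smul_zero] at he₁
    exact emb_ne_zero hv₁0 (hinj (by simpa using he₁))
  have hwind : ∀ k : F₀, w ≠ k • w₁ := by
    intro k hk
    have h1 : suMat g *ᵥ emb P v = suMat g *ᵥ ((l * k / l₁) • emb P v₁) := by
      rw [Matrix.mulVec_smul, he₁, he, hk, emb_smul, smul_smul, smul_smul,
        div_mul_cancel₀ _ hne1]
    have h2 := hinj h1
    obtain ⟨i, j, hD⟩ := exists_minor hv₁0 hvind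
    have e : ∀ i, (v i : F) = l * k / l₁ * v₁ i := fun i => by
      have := congrFun (congrArg (((P⁻¹ : GL (Fin n) F) : Matrix (Fin n) (Fin n) F) *ᵥ ·) h2) i
      simp only [Matrix.mulVec_add, Matrix.mulVec_smul, Matrix.mulVec_neg, Pi.add_apply, Pi.smul_apply, Pi.neg_apply, smul_eq_mul, emb_apply_inv] at this
      exact this
    exact hD (by rw [e i, e j]; ring)
  have hratio : l₁ / l ∈ F₀ := by
    refine ratio_of_rel (P := P) (c := l₂) (w := w₂) hw₁0 hwind ?_ hne
    rw [← he₁, ← he, ← Matrix.mulVec_add, ← emb_add, he₂]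
  set w₁' : Fin n → F₀ := (⟨_, hratio⟩ : F₀) • w₁ with hw₁'
  have he₁' : suMat g *ᵥ emb P v₁ = l • emb P w₁' := by
    rw [hw₁', emb_smul, smul_smul, he₁]
    congr 1
    rw [mul_div_cancel₀ _ hne]
  -- the scalar is rational
  set A₁ := hh (emb P v₁) z with hA₁
  set A₂ := hh (emb P v) z with hA₂
  have hu1 : A₁ • u = l • emb P w₁' + (-1 : F) • emb P v₁ := by
    rw [← he₁', hgSp _ (hEW _ hv₁), neg_one_smul]; abel
  have hu2 : A₂ • u = l • emb P w + (-1 : F) • emb P v := by
    rw [← he, hgSp _ (hEW _ hvE), neg_one_smul]; abel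
  have hcoord : ∀ i, A₂ * (l * w₁' i - v₁ i) = A₁ * (l * w i - v i) := by
    intro i
    have h1 := congrFun (congrArg (((P⁻¹ : GL (Fin n) F) : Matrix (Fin n) (Fin n) F) *ᵥ ·) hu1) i
    have h2 := congrFun (congrArg (((P⁻¹ : GL (Fin n) F) : Matrix (Fin n) (Fin n) F) *ᵥ ·) hu2) i
    simp only [Matrix.mulVec_add, Matrix.mulVec_smul, Matrix.mulVec_neg, Pi.add_apply, Pi.smul_apply, Pi.neg_apply, smul_eq_mul, emb_apply_inv] at h1 h2
    linear_combination A₁ * h2 - A₂ * h1
  have hA₁0 : A₁ ≠ 0 := hA0 v₁ hv₁ hv₁0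
  have hA₂0 : A₂ ≠ 0 := hA0 v hvE hv0
  have hlF : l ∈ F₀ := by
    obtain ⟨i, j, hD⟩ := exists_minor hv₁0 hvind
    have e : A₁ * A₂ * ((l * w₁' i - v₁ i) * (l * w j - v j) -
        (l * w₁' j - v₁ j) * (l * w i - v i)) = 0 := by
      linear_combination A₁ * (l * w j - v j) * hcoord i - A₁ * (l * w i - v i) * hcoord j
    have e' := (mul_eq_zero.1 e).resolve_left (mul_ne_zero hA₁0 hA₂0)
    refine mem_of_quadratic D (a := (w₁' i : F) * w j - (w₁' j : F) * w i)
      (b := -((w₁' i : F) * v j + (v₁ i : F) * w j - (w₁' j : F) * v i - (v₁ j : F) * w i))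
      (c := (v₁ i : F) * v j - (v₁ j : F) * v i) ?_ ?_ ?_ hD (by linear_combination e')
    · exact sub_mem (mul_mem (w₁' i).2 (w j).2) (mul_mem (w₁' j).2 (w i).2)
    · exact neg_mem (sub_mem (sub_mem (add_mem (mul_mem (w₁' i).2 (v j).2)
        (mul_mem (v₁ i).2 (w j).2)) (mul_mem (w₁' j).2 (v i).2)) (mul_mem (v₁ j).2 (w i).2))
    · exact sub_mem (mul_mem (v₁ i).2 (v j).2) (mul_mem (v₁ j).2 (v i).2)
  set w₀ : Fin n → F₀ := (⟨l, hlF⟩ : F₀) • w₁' with hw₀
  have hw₀e : suMat g *ᵥ emb P v₁ = emb P w₀ := by rw [hw₀, emb_smul, he₁']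
  have hw₀0 : w₀ ≠ 0 := fun h0 => by
    rw [h0, emb_zero] at hw₀e
    exact emb_ne_zero hv₁0 (hinj (by simpa using hw₀e))
  have hA₀ : hh (emb P w₀) z = η * A₁ := by rw [← hw₀e, hgA _ (hEW _ hv₁)]
  have hindep : ∀ k : F₀, v₁ ≠ k • w₀ := by
    intro k hk
    have h1 : A₁ = (k : F) * (η * A₁) := by
      conv_lhs => rw [hA₁, hk, emb_smul, h_smul_left, hA₀]
    have h2 : (k : F) * η = 1 := by
      apply mul_right_cancel₀ hA₁0
      linear_combination -h1
    have : η = (k : F)⁻¹ := eq_inv_of_mul_eq_one_right h2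
    exact hηF (this ▸ F₀.inv_mem k.2)
  have hw₀Sp : emb P w₀ ∈ Sp := by
    rw [← hw₀e, hgSp _ (hEW _ hv₁)]; exact Sp.add_mem (hEW _ hv₁) (Sp.smul_mem _ huSp)
  obtain ⟨l₃, w₃, he₃⟩ := hpoint w₀ hw₀0 hw₀Sp
  have hrel : (1 + η) • emb P w₀ + (-η) • emb P v₁ = l₃ • emb P w₃ := by
    rw [← he₃, hgSp _ hw₀Sp, hA₀, mul_smul,
      show A₁ • u = emb P w₀ + (-1 : F) • emb P v₁ by
        rw [← hw₀e, hgSp _ (hEW _ hv₁), neg_one_smul]; abel]
    module
  have hη0 : -η ≠ 0 := neg_ne_zero.2 fun h0 => hηF (h0 ▸ F₀.zero_mem)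
  have hq1 := ratio_of_rel (P := P) hw₀0 hindep hrel hη0
  apply hηF
  have hne' : (1 + η) / -η + 1 ≠ 0 := by
    rw [div_add_one hη0]
    refine div_ne_zero ?_ hη0
    rw [add_neg_cancel_right]
    exact one_ne_zero
  have : η = -1 / ((1 + η) / -η + 1) := by
    rw [div_add_one hη0, add_neg_cancel_right, div_div_eq_mul_div, div_one, neg_mul_neg, one_mul]
  rw [this]
  exact div_mem (neg_mem F₀.one_mem) (add_mem hq1 F₀.one_mem)

theorem points (hn : 6 ≤ n) (g : SU n F q)
    (h : ∀ u : Fin n → F₀, RIso D u → u ≠ 0 →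
      ∃ (l : F) (w : Fin n → F₀), suMat g *ᵥ emb P u = l • emb P w) :
    suHom n F q g ∈ Cfsg.Geo.subfieldSubgroup F₀ P := by
  have hF := D.hF
  have hcard : 6 ≤ Fintype.card (Fin n) := by rw [Fintype.card_fin]; omega
  have hinj : Function.Injective (fun y : Fin n → F => suMat g *ᵥ y) := fun y y' hyy => by
    have := congrArg (suMat g⁻¹ *ᵥ ·) hyy
    simp only [suMat_inv_mulVec] at this
    exact this
  obtain ⟨a, hai, -, han⟩ := exists_iso_extend (unitary₀ D) (⊥ : Submodule F₀ (Fin n → F₀))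
    (fun x hx y _ => by rw [(Submodule.mem_bot F₀).1 hx, uf_zero_left (unitary₀ D)])
    (by rw [finrank_bot, Fintype.card_fin]; omega)
  have ha : RIso D a := congrArg Subtype.val hai
  have ha0 : a ≠ 0 := fun h0 => han (h0 ▸ Submodule.zero_mem _)
  obtain ⟨L, wa, hwa⟩ := h a ha ha0
  let S : Submodule F₀ (Fin n → F₀) :=
    { carrier := {u | ∃ w, suMat g *ᵥ emb P u = L • emb P w}
      zero_mem' := ⟨(0 : Fin n → F₀), by rw [emb_zero (F₀ := F₀), Matrix.mulVec_zero, smul_zero]⟩
      add_mem' := by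
        rintro x y ⟨w, hw⟩ ⟨w', hw'⟩
        exact ⟨w + w', by rw [emb_add, emb_add, Matrix.mulVec_add, hw, hw', smul_add]⟩
      smul_mem' := by
        rintro c x ⟨w, hw⟩
        exact ⟨c • w, by rw [emb_smul, emb_smul, Matrix.mulVec_smul, hw, smul_comm]⟩ }
  have haS : a ∈ S := ⟨wa, hwa⟩
  have step : ∀ x y : Fin n → F₀, RIso D x → RIso D y → x ≠ 0 → (∀ k : F₀, y ≠ k • x) →
      Cfsg.hermForm n F q (emb P x) (emb P y) = 0 → x ∈ S → y ∈ S := by
    intro x y hx hy hx0 hind hxy hxS
    obtain ⟨wx, hwx⟩ := hxS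
    have hy0 : y ≠ 0 := fun h0 => hind 0 (by rw [h0, zero_smul])
    obtain ⟨l, wy, hwy⟩ := h y hy hy0
    obtain ⟨l', w', hw'⟩ := h (x + y) (riso_add D hx hy hxy) fun h0 =>
      hind (-1) (by rw [neg_smul, one_smul]; exact eq_neg_of_add_eq_zero_right h0)
    have hL : L ≠ 0 := fun h0 => by
      rw [h0, zero_smul] at hwx
      exact emb_ne_zero hx0 (hinj (hwx.trans (Matrix.mulVec_zero _).symm))
    have hwx0 : wx ≠ 0 := fun h0 => by
      rw [h0, emb_zero, smul_zero] at hwx
      exact emb_ne_zero hx0 (hinj (hwx.trans (Matrix.mulVec_zero _).symm))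
    have hl : l ≠ 0 := fun h0 => by
      rw [h0, zero_smul] at hwy
      exact emb_ne_zero hy0 (hinj (hwy.trans (Matrix.mulVec_zero _).symm))
    have hwind : ∀ k : F₀, wy ≠ k • wx := by
      intro k hk
      have h1 : suMat g *ᵥ emb P y = suMat g *ᵥ ((l * k / L) • emb P x) := by
        rw [Matrix.mulVec_smul, hwx, hwy, hk, emb_smul, smul_smul, smul_smul,
          div_mul_cancel₀ _ hL]
      have h2 := hinj h1
      obtain ⟨i, j, hD⟩ := exists_minor hx0 hind
      have e : ∀ i, (y i : F) = l * k / L * x i := fun i => by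
        have := congrFun (congrArg (((P⁻¹ : GL (Fin n) F) : Matrix (Fin n) (Fin n) F) *ᵥ ·) h2) i
        simp only [Matrix.mulVec_smul, Pi.smul_apply, smul_eq_mul, emb_apply_inv] at this
        exact this
      exact hD (by rw [e i, e j]; ring)
    have hr : L / l ∈ F₀ := ratio_of_rel (P := P) (c := l') (w := w') hwx0 hwind
      (by rw [← hwx, ← hwy, ← Matrix.mulVec_add, ← emb_add, hw']) hl
    have hr' : l / L ∈ F₀ := by rw [← inv_div]; exact F₀.inv_mem hr
    refine ⟨(⟨_, hr'⟩ : F₀) • wy, ?_⟩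
    rw [emb_smul, smul_smul, hwy]
    congr 1
    rw [mul_div_cancel₀ _ hL]
  have hiso : ∀ b : Fin n → F₀, RIso D b → b ∈ S := by
    intro b hb
    by_cases hdep : ∃ k : F₀, b = k • a
    · obtain ⟨k, rfl⟩ := hdep
      exact S.smul_mem k haS
    push Not at hdep
    by_cases hab : Cfsg.hermForm n F q (emb P a) (emb P b) = 0
    · exact step a b ha hb ha0 hdep hab haS
    have hindab : ∀ r s : F₀, r • a + s • b = 0 → r = 0 ∧ s = 0 := by
      intro r s h0
      by_cases hs : s = 0
      · rw [hs, zero_smul, add_zero, smul_eq_zero] at h0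
        exact ⟨h0.resolve_right ha0, hs⟩
      · exfalso
        apply hdep (-s⁻¹ * r)
        have h' := congrArg (fun x => s⁻¹ • x) h0
        simp only [smul_add, smul_smul, smul_zero, inv_mul_cancel₀ hs, one_smul] at h'
        rw [neg_mul, neg_smul, eq_neg_iff_add_eq_zero, ← h']
        abel
    obtain ⟨w, hwi, hwa', hwb', hw0⟩ := exists_iso_two (unitary₀ D) hcard a b hindab 0 0
    have hw : RIso D w := congrArg Subtype.val hwi
    have h1 : Cfsg.hermForm n F q (emb P w) (emb P a) = 0 := congrArg Subtype.val hwa'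
    have h2 : Cfsg.hermForm n F q (emb P w) (emb P b) = 0 := congrArg Subtype.val hwb'
    have haw : ∀ k : F₀, w ≠ k • a := fun k hk => by
      rw [hk, emb_smul, h_smul_left, mul_eq_zero] at h2
      exact hw0 (by rw [hk, show k = 0 from Subtype.ext (h2.resolve_right hab), zero_smul])
    have hwb : ∀ k : F₀, b ≠ k • w := fun k hk => by
      apply hab
      rw [hk, emb_smul, h_smul_right hF, (h_eq_zero_comm hF).1 h1, mul_zero]
    exact step w b hw hb hw0 hwb h2 (step a w ha hw ha0 haw ((h_eq_zero_comm hF).1 h1) haS)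
  have hall : ∀ u, u ∈ S := by
    intro u
    by_contra hnm
    obtain ⟨ψ, hψ, hK⟩ := exists_dot_sep _ hnm
    obtain ⟨y, hy⟩ := ufv_surjective (unitary₀ D) ψ
    have hy0 : y ≠ 0 := fun h0 => hψ (by
      rw [dotProduct_comm, ← hy, ufv_dot (unitary₀ D), h0, uf_zero_right (unitary₀ D)])
    obtain ⟨x, hx, hxy⟩ := exists_iso_one (unitary₀ D) hcard hy0 1
    have := hK x (hiso x (congrArg Subtype.val hx))
    rw [dotProduct_comm, ← hy, ufv_dot (unitary₀ D), hxy] at this
    exact one_ne_zero this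
  refine Cfsg.Agent.S5660.mem_of_points (by omega) fun v hv _ => ?_
  obtain ⟨u, rfl⟩ := exists_emb hv
  obtain ⟨w, hw⟩ := hall u
  exact ⟨L, _, rt_emb w, by rw [suHom_val]; exact hw⟩

end Setting

/-- The subfield subgroup of odd prime index is maximal in SU_n(q) for n ≥ 6. -/
theorem subfield_max {F : Type*} [Field F] [Fintype F] {n q : ℕ} (hF : Fintype.card F = q ^ 2) (hn : 6 ≤ n) (F₀ : Subfield F) (r : ℕ) (hr : r.Prime) (hro : Odd r) (hcard : Fintype.card F = Nat.card F₀ ^ r) (P : Matrix.GeneralLinearGroup (Fin n) F) (hP : Cfsg.Geo.IsFormRationalStructure (Cfsg.hermForm n F q) F₀ 1 P) :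
    Cfsg.Geo.IsMaximalIn (Cfsg.GU n F q ⊓ Cfsg.Geo.specialLinear (Fin n) F) (Cfsg.Geo.subfieldSubgroup F₀ P ⊓ (Cfsg.GU n F q ⊓ Cfsg.Geo.specialLinear (Fin n) F)) := by
  have D : Setting n q F₀ P := ⟨hF, ⟨r, hr, hro, by rw [Nat.card_eq_fintype_card]; exact hcard⟩,
    fun u v => by
      have := hP (fun i => u i) (fun i => v i) (fun i => (u i).2) (fun i => (v i).2)
      rwa [one_mul] at this⟩
  set H := Cfsg.Geo.subfieldSubgroup F₀ P with hH
  obtain ⟨θ, hθ⟩ : ∃ θ : F, θ ∉ F₀ := by
    by_contra hc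
    push Not at hc
    have h1 : Nat.card F₀ = Fintype.card F := by
      rw [Nat.card_congr (Equiv.subtypeUnivEquiv hc), Nat.card_eq_fintype_card]
    rw [h1] at hcard
    have := Nat.pow_lt_pow_right (Fintype.one_lt_card (α := F)) hr.one_lt
    rw [pow_one, ← hcard] at this
    omega
  have hθ0 : θ ≠ 0 := fun h0 => hθ (h0 ▸ F₀.zero_mem)
  obtain ⟨a, hai, -, han⟩ := exists_iso_extend (unitary₀ D) (⊥ : Submodule F₀ (Fin n → F₀))
    (fun x hx y _ => by rw [(Submodule.mem_bot F₀).1 hx, uf_zero_left (unitary₀ D)])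
    (by rw [finrank_bot, Fintype.card_fin]; omega)
  have ha : RIso D a := congrArg Subtype.val hai
  have ha0 : a ≠ 0 := fun h0 => han (h0 ▸ Submodule.zero_mem _)
  obtain ⟨b, hbi, hba, hbn⟩ := exists_iso_extend (unitary₀ D) (Submodule.span F₀ {a})
    (fun x hx y hy => by
      obtain ⟨s, rfl⟩ := Submodule.mem_span_singleton.1 hx
      obtain ⟨t, rfl⟩ := Submodule.mem_span_singleton.1 hy
      rw [(unitary₀ D).smul_left, uf_smul_right (unitary₀ D), hai, mul_zero, mul_zero])
    (by rw [finrank_span_singleton ha0, Fintype.card_fin]; omega)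
  have hind : ∀ k : F₀, b ≠ k • a := fun k hk =>
    hbn (hk ▸ Submodule.smul_mem _ _ (Submodule.mem_span_singleton_self a))
  have hab : Cfsg.hermForm n F q (emb P a) (emb P b) = 0 := (h_eq_zero_comm hF).1
    (congrArg Subtype.val (hba a (Submodule.mem_span_singleton_self a)))
  have hnp : ∀ (l : F) (u : Fin n → F₀), emb P a + θ • emb P b ≠ l • emb P u := by
    intro l u he
    have h1 : (1 : F) / θ ∈ F₀ := ratio_of_rel (P := P) (c := l) (w := u) ha0 hind (by rw [one_smul]; exact he) hθ0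
    exact hθ (by have := F₀.inv_mem h1; rwa [one_div, inv_inv] at this)
  refine ⟨lt_of_le_not_ge inf_le_right fun hle => ?_, fun M hHM hMK => ?_⟩
  · obtain ⟨t, -, ht⟩ := reach_isotropic hF (by omega) (emb_ne_zero ha0) ha
      (v := emb P a + θ • emb P b) (fun h0 => hnp 0 0 (by rw [h0, zero_smul]))
      (by
        rw [h_add_left, h_add_right hF, h_add_right hF, h_smul_left, h_smul_right hF,
          h_smul_right hF, h_smul_left, show Cfsg.hermForm n F q (emb P a) (emb P a) = 0 from ha,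
          show Cfsg.hermForm n F q (emb P b) (emb P b) = 0 from congrArg Subtype.val hbi, hab,
          (h_eq_zero_comm hF).1 hab]
        simp)
    obtain ⟨l, v, hv, he⟩ :=
      Cfsg.Agent.S5660.point_of_mem (Subgroup.mem_inf.1 (hle (suHom_mem t))).1 (rt_emb a)
    obtain ⟨u, rfl⟩ := exists_emb hv
    rw [suHom_val, ht] at he
    exact hnp l u he
  by_cases hle : M ≤ H
  · exact Or.inl (le_antisymm (le_inf hle hMK) hHM)
  obtain ⟨g, hgM, hgH⟩ := SetLike.not_le_iff_exists.mp hle
  obtain ⟨g', rfl⟩ := exists_suHom_eq (hMK hgM)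
  refine Or.inr (le_antisymm hMK fun s hs => ?_)
  obtain ⟨s', rfl⟩ := exists_suHom_eq hs
  set K := M.comap (suHom n F q) with hKdef
  have hK : HasRat D K := fun u hu c hcF hc A hA =>
    hHM ⟨hasRat D u hu c hcF hc A hA, suHom_mem A⟩
  obtain ⟨u, hu, -, hbad⟩ : ∃ u : Fin n → F₀, RIso D u ∧ u ≠ 0 ∧
      ∀ (l : F) (w : Fin n → F₀), suMat g' *ᵥ emb P u ≠ l • emb P w := by
    by_contra hc
    push Not at hc
    exact hgH (points D (by omega) g' hc)
  obtain ⟨c₀, hc₀0, hc₀⟩ := exists_anti₀ D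
  have hc₀' : (c₀ : F) ≠ 0 := fun h0 => hc₀0 (Subtype.ext h0)
  have hz : Mem K (suMat g' *ᵥ emb P u) c₀ := mem_conj D (hK u hu _ c₀.2 hc₀) hgM
  have hzz : Cfsg.hermForm n F q (suMat g' *ᵥ emb P u) (suMat g' *ᵥ emb P u) = 0 := by
    rw [suMat_h]; exact hu
  have hgood : GoodScalar D K := by
    by_cases hex : ∃ v : Fin n → F₀, RIso D v ∧ v ≠ 0 ∧
        Cfsg.hermForm n F q (suMat g' *ᵥ emb P u) (emb P v) = 0
    · obtain ⟨v, hv, hv0, hzv⟩ := hex
      exact exists_good_of_orth D (by omega) hK hz hc₀' hc₀ c₀.2 hzz hbad hv hv0 hzv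
    · push Not at hex
      exact exists_good_of_no_orth D (by omega) hK hz hc₀' hc₀ hzz hex
  have htop := eq_top_of_good D (by omega) hK hgood
  show s' ∈ K
  rw [htop]
  exact Subgroup.mem_top s'


end H86.SU6
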