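import Cfsg.Agent.H38.SpInSU
import Cfsg.Agent.S5660

/-!
Symplectic subfield subgroups of SU_n(q) from dimension 5 on.
-/

set_option autoImplicit false
set_option linter.unusedSectionVars false
open Cfsg Matrix H50
open scoped MatrixGroups

namespace H86.SU6

open H38 H38.SpSU Cfsg.Agent.S5660
open H51.StabMax (IsCtr suHom suHom_mem suHom_val exists_suHom_eq)

section pairs
variable {F : Type*} [Field F] {n q : ℕ}

local notation "V" => (Fin n → F)
local notation "hh" => Cfsg.hermForm n F q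

variable {F₀ : Subfield F} {P : GL (Fin n) F}
variable [Fintype F] (hF : Fintype.card F = q ^ 2) (hcard : Fintype.card F = Nat.card F₀ ^ 2)
  (halt : ∀ a : Fin n → F, Rt F₀ P a → Cfsg.hermForm n F q a a = 0)
include hF hcard halt

theorem exists_rt_pair (hn : 5 ≤ n) {a a' : V} (ha : Rt F₀ P a) (ha' : Rt F₀ P a') :
    ∃ c, Rt F₀ P c ∧ hh a c = 0 ∧ hh a' c = 0 ∧
      (∀ k ∈ F₀, c ≠ k • a) ∧ (∀ k ∈ F₀, c ≠ k • a') := by
  let T : (Fin n → F₀) →+ F × F := AddMonoidHom.mk'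
    (fun u => (hh a ((P : Matrix (Fin n) (Fin n) F) *ᵥ fun i => (u i : F)),
      hh a' ((P : Matrix (Fin n) (Fin n) F) *ᵥ fun i => (u i : F))))
    fun u w => by
      have : (fun i => ((u + w) i : F)) = (fun i => (u i : F)) + fun i => (w i : F) := rfl
      rw [this, Matrix.mulVec_add, h_add_right hF, h_add_right hF, Prod.mk_add_mk]
  have hq := card_F₀ (F₀ := F₀) (P := P) hF hcard halt
  have hq2 := two_le hF
  have hker : q ^ n ≤ Nat.card T.ker * q ^ 2 := by
    have h1 := AddSubgroup.card_mul_index T.ker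
    rw [AddSubgroup.index_ker, Nat.card_fun, hq, Nat.card_eq_fintype_card (α := Fin n),
      Fintype.card_fin] at h1
    have h2 : Nat.card T.range ≤ q ^ 2 := by
      obtain ⟨d, hd0, hd⟩ := exists_trace_zero_ne_zero hF
      have hdq : d ^ q = -d := by linear_combination hd
      have key : ∀ x : T.range, x.1.1 / d ∈ F₀ ∧ x.1.2 / d ∈ F₀ := by
        rintro ⟨_, u, rfl⟩
        exact ⟨ratio_mem (P := P) hF hcard halt (anti_of_rt hF hcard halt ha (rt_mulVec fun i => (u i).2)) hdq,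
          ratio_mem (P := P) hF hcard halt (anti_of_rt hF hcard halt ha' (rt_mulVec fun i => (u i).2)) hdq⟩
      refine (Nat.card_le_card_of_injective
        (fun x : T.range => ((⟨_, (key x).1⟩, ⟨_, (key x).2⟩) : F₀ × F₀)) ?_).trans_eq ?_
      · intro x y hxy
        simp only [Prod.mk.injEq, Subtype.mk.injEq, div_left_inj' hd0] at hxy
        exact Subtype.ext (Prod.ext hxy.1 hxy.2)
      · rw [Nat.card_prod, hq, sq]
    calc q ^ n = Nat.card T.ker * Nat.card T.range := h1.symm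
      _ ≤ _ := Nat.mul_le_mul_left _ h2
  have hbig : 2 * q < Nat.card T.ker := by
    by_contra hlt
    push Not at hlt
    have h3 : q ^ n ≤ 2 * q * q ^ 2 := hker.trans (Nat.mul_le_mul_right _ hlt)
    have h4 : 2 * q * q ^ 2 < q ^ 5 := by
      calc 2 * q * q ^ 2 ≤ q * q * q ^ 2 := by
            exact Nat.mul_le_mul_right _ (Nat.mul_le_mul_right _ hq2)
        _ = q ^ 4 := by ring
        _ < q ^ 5 := Nat.pow_lt_pow_right (by omega) (by omega)
    have := Nat.pow_le_pow_right (show 1 ≤ q by omega) hn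
    omega
  by_contra hc
  push Not at hc
  let L : F₀ ⊕ F₀ → V := Sum.elim (fun k => (k : F) • a) (fun k => (k : F) • a')
  have hcov : ∀ u ∈ T.ker, ∃ k, L k = (P : Matrix (Fin n) (Fin n) F) *ᵥ fun i => (u i : F) := by
    intro u hu
    rw [AddMonoidHom.mem_ker] at hu
    by_cases h1 : ∀ k ∈ F₀, (P : Matrix (Fin n) (Fin n) F) *ᵥ (fun i => (u i : F)) ≠ k • a
    · obtain ⟨k, hk, he⟩ := hc _ (rt_mulVec fun i => (u i).2) (congrArg Prod.fst hu)
        (congrArg Prod.snd hu) h1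
      exact ⟨Sum.inr ⟨k, hk⟩, he.symm⟩
    · push Not at h1
      obtain ⟨k, hk, he⟩ := h1
      exact ⟨Sum.inl ⟨k, hk⟩, he.symm⟩
  choose g hg using hcov
  have hinj : Function.Injective fun u : T.ker => g u.1 u.2 := by
    intro u w huw
    have h1 := (hg u.1 u.2).symm.trans ((congrArg L huw).trans (hg w.1 w.2))
    have h2 := H49.gl_mulVec_injective P h1
    exact Subtype.ext (funext fun i => Subtype.ext (congrFun h2 i))
  have := Nat.card_le_card_of_injective _ hinj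
  rw [Nat.card_sum, hq] at this
  omega

variable {K : Subgroup (SU n F q)} (hK : ∀ v : Fin n → F, Rt F₀ P v → IsCtr K v)
include hK

theorem good_pairs (hn : 5 ≤ n) {θ : F} (hθ0 : θ ≠ 0) {a b a' b' : V} (h : Pr F₀ P q a b)
    (h' : Pr F₀ P q a' b') (hg : IsCtr K (a + θ • b)) : IsCtr K (a' + θ • b') := by
  obtain ⟨c, hc, hca, hca', hci, hci'⟩ := exists_rt_pair hF hcard halt hn h.ra h'.ra (P := P)
  have h1 : Pr F₀ P q a c := ⟨h.ra, hc, hca, hci, h.ne⟩
  have h2 : Pr F₀ P q a' c := ⟨h'.ra, hc, hca', hci', h'.ne⟩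
  have g1 := good_swap hF hcard halt hK hθ0 (good_all_right hF hcard halt hK hθ0 h h1 hg)
  have g2 := good_all_right hF hcard halt hK (inv_ne_zero hθ0) (Pr.swap hF hcard halt h1)
    (Pr.swap hF hcard halt h2) g1
  have g3 := good_swap hF hcard halt hK (inv_ne_zero hθ0) g2
  rw [inv_inv] at g3
  exact good_all_right hF hcard halt hK hθ0 h2 h' g3

theorem eq_top_pair (hn : 5 ≤ n) {θ : F} (hθ : θ ∉ F₀) {a b : V} (h : Pr F₀ P q a b)
    (hg : IsCtr K (a + θ • b)) : K = ⊤ := by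
  have hθ0 : θ ≠ 0 := fun h0 => hθ (h0 ▸ F₀.zero_mem)
  refine H51.StabMax.eq_top_of_ctr hF (by omega) K fun z hz => ?_
  rcases exists_pair hF hcard halt (P := P) hθ z hz with ⟨r, l, hr, rfl⟩ | ⟨a', b', h', rfl⟩
  · exact H51.StabMax.ctr_smul hF (hK r hr) l
  · exact good_pairs hF hcard halt hK hn hθ0 h h' hg

end pairs

/-- The symplectic subfield subgroup is maximal in SU_n(q), n ≥ 5. -/
theorem symp_max {F : Type*} [Field F] [Fintype F] {n q : ℕ} (hF : Fintype.card F = q ^ 2) (hn : 5 ≤ n) (F₀ : Subfield F) (hcard : Fintype.card F = Nat.card F₀ ^ 2) (ζ : F) (hζ0 : ζ ≠ 0) (hζ : ζ + ζ ^ q = 0) (P : Matrix.GeneralLinearGroup (Fin n) F) (hP : Cfsg.Geo.IsFormRationalStructure (Cfsg.hermForm n F q) F₀ ζ P) (halt : ∀ u : Fin n → F, (∀ i, u i ∈ F₀) → Cfsg.hermForm n F q (Matrix.mulVec (P : Matrix (Fin n) (Fin n) F) u) (Matrix.mulVec (P : Matrix (Fin n) (Fin n) F) u) = 0) : Cfsg.Geo.IsMaximalIn (Cfsg.GU n F q ⊓ Cfsg.Geo.specialLinear (Fin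 n) F) (Cfsg.Geo.subfieldSubgroup F₀ P ⊓ (Cfsg.GU n F q ⊓ Cfsg.Geo.specialLinear (Fin n) F)) := by
  have halt' : ∀ a : Fin n → F, Rt F₀ P a → Cfsg.hermForm n F q a a = 0 := fun a ha => by
    have := halt _ ha
    rwa [H49.gl_mulVec_inv] at this
  set H := Cfsg.Geo.subfieldSubgroup F₀ P with hH
  have hctr : ∀ v, Rt F₀ P v → IsCtr (H.comap (suHom n F q)) v := by
    intro v hv
    refine ⟨halt' v hv, fun A c hc hA => ?_⟩
    rw [Subgroup.mem_comap, hH, mem_subfield_iff]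
    refine ⟨1, one_ne_zero, fun i j => ?_⟩
    have e : ((P⁻¹ * suHom n F q A * P : GL (Fin n) F) : Matrix (Fin n) (Fin n) F) i j =
        (((P⁻¹ * suHom n F q A * P : GL (Fin n) F) : Matrix (Fin n) (Fin n) F) *ᵥ Pi.single j 1) i := by
      simp
    rw [one_mul, e, conj_apply, suHom_val, hA, ut_mulVec, Matrix.mulVec_add, Matrix.mulVec_smul,
      H49.gl_inv_mulVec, Pi.add_apply, Pi.smul_apply, smul_eq_mul]
    refine add_mem ?_ (mul_mem (SpSU.mul_mem' (P := P) hF hcard halt' (by linear_combination hc)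
      (anti_of_rt hF hcard halt' (rt_col j) hv)) (hv i))
    by_cases h : i = j <;> simp [h]
  obtain ⟨θ, hθ⟩ : ∃ θ : F, θ ∉ F₀ := by
    by_contra hc
    push Not at hc
    have h1 := card_F₀ (P := P) hF hcard halt'
    rw [Nat.card_congr (Equiv.subtypeUnivEquiv hc), Nat.card_eq_fintype_card, hF] at h1
    have := two_le hF
    nlinarith
  -- one non-rational isotropic point
  obtain ⟨i₀⟩ : Nonempty (Fin n) := ⟨⟨0, by omega⟩⟩
  set a₀ := col P i₀ with ha₀
  obtain ⟨b₀, hb₀, hab₀, -, hb₀a, -⟩ := exists_rt_pair hF hcard halt' (by omega) (rt_col i₀) (rt_col i₀) (P := P)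
  have ha₀0 : a₀ ≠ 0 := fun h => by
    have h2 : (Pi.single i₀ (1 : F) : Fin n → F) = 0 :=
      H49.gl_mulVec_injective P (h.trans (Matrix.mulVec_zero _).symm)
    simpa using congrFun h2 i₀
  have hpr : Pr F₀ P q a₀ b₀ := ⟨rt_col i₀, hb₀, hab₀, hb₀a, ha₀0⟩
  refine ⟨lt_of_le_not_ge inf_le_right fun hle => ?_, fun M hHM hMK => ?_⟩
  · obtain ⟨t, -, ht⟩ := reach_isotropic hF (by omega) ha₀0 (halt' _ (rt_col i₀))
      (v := a₀ + θ • b₀) (fun h => not_point hF hcard halt' hθ hpr rt_zero 0 (by rw [h, zero_smul]))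
      (by
        rw [h_add_left, h_add_right hF, h_add_right hF, h_smul_left, h_smul_right hF,
          h_smul_right hF, h_smul_left, halt' _ (rt_col i₀), halt' _ hb₀, hab₀,
          (h_eq_zero_comm hF).1 hab₀]
        simp)
    obtain ⟨l, r, hr, he⟩ := point_of_mem (Subgroup.mem_inf.1 (hle (suHom_mem t))).1 (rt_col i₀)
    rw [suHom_val, ht] at he
    exact not_point hF hcard halt' hθ hpr hr l he
  by_cases hle : M ≤ H
  · exact Or.inl (le_antisymm (le_inf hle hMK) hHM)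
  obtain ⟨g, hgM, hgH⟩ := SetLike.not_le_iff_exists.mp hle
  obtain ⟨g', rfl⟩ := exists_suHom_eq (hMK hgM)
  refine Or.inr (le_antisymm hMK fun s hs => ?_)
  obtain ⟨s', rfl⟩ := exists_suHom_eq hs
  set K := M.comap (suHom n F q) with hKdef
  have hK : ∀ v, Rt F₀ P v → IsCtr K v := fun v hv =>
    ⟨(hctr v hv).1, fun A c hc hA => hHM ⟨(hctr v hv).2 A c hc hA, suHom_mem A⟩⟩
  obtain ⟨v, hv, -, hbad⟩ : ∃ v, Rt F₀ P v ∧ v ≠ 0 ∧ ∀ (l : F) (r : Fin n → F), Rt F₀ P r →
      (suHom n F q g' : Matrix (Fin n) (Fin n) F) *ᵥ v ≠ l • r := by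
    by_contra hc
    push Not at hc
    exact hgH (mem_of_points (by omega) hc)
  have hgv : IsCtr K (suMat g' *ᵥ v) := H51.StabMax.ctr_group (hK v hv) hgM
  rcases exists_pair hF hcard halt' (P := P) hθ _ hgv.1 with ⟨r, l, hr, he⟩ | ⟨a, b, hab, he⟩
  · exact absurd he (by rw [← suHom_val]; exact hbad l r hr)
  · have htop := eq_top_pair hF hcard halt' hK (by omega) hθ hab (he ▸ hgv)
    show s' ∈ K
    rw [htop]
    exact Subgroup.mem_top s'


end H86.SU6
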